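import Mathlib

/-!
# Powers of `ad` in associative rings of characteristic `p`
-/

set_option linter.unusedSectionVars false
set_option linter.unusedVariables false
set_option linter.unusedSimpArgs false
set_option autoImplicit false
set_option linter.style.haveILetI false
set_option maxHeartbeats 400000

namespace Groth.Agent.Lib.Helper6.PLieL

open Finset

section Binom

variable (p : ℕ) [hp : Fact p.Prime]

/-- `C(p-1, m) * (-1)^m = 1` in `ZMod p`. -/
theorem choose_pred_zmod (m : ℕ) (hm : m ≤ p - 1) :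
    ((Nat.choose (p - 1) m : ℕ) : ZMod p) * (-1) ^ m = 1 := by
  induction m with
  | zero => simp
  | succ m ih =>
    have hm' : m ≤ p - 1 := by omega
    have ih' := ih hm'
    have hp1 : p - 1 + 1 = p := Nat.sub_add_cancel hp.out.one_le
    have h1 : Nat.choose p (m + 1) = Nat.choose (p - 1) m + Nat.choose (p - 1) (m + 1) := by
      conv_lhs => rw [← hp1]
      exact Nat.choose_succ_succ _ _
    have h2 : ((Nat.choose p (m + 1) : ℕ) : ZMod p) = 0 := by
      rw [ZMod.natCast_eq_zero_iff]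
      exact hp.out.dvd_choose_self (Nat.succ_ne_zero m) (by omega)
    rw [h1, Nat.cast_add] at h2
    have h3 : ((Nat.choose (p - 1) (m + 1) : ℕ) : ZMod p) = - ((Nat.choose (p - 1) m : ℕ) : ZMod p) :=
      eq_neg_of_add_eq_zero_right h2
    rw [h3, pow_succ]
    calc -((Nat.choose (p - 1) m : ℕ) : ZMod p) * ((-1) ^ m * -1)
        = ((Nat.choose (p - 1) m : ℕ) : ZMod p) * (-1) ^ m := by ring
      _ = 1 := ih'

theorem neg_one_pow_pred_zmod : ((-1 : ZMod p)) ^ (p - 1) = 1 := by
  rcases hp.out.eq_two_or_odd' with h2 | hodd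
  · have h : (-1 : ZMod 2) ^ (2 - 1) = 1 := by decide
    subst h2
    exact h
  · have : Even (p - 1) := by
      obtain ⟨k, hk⟩ := hodd
      exact ⟨k, by omega⟩
    exact this.neg_one_pow

/-- integer form: `C(p-1,m) * (-1)^(p-1-m) = 1 + p * q`. -/
theorem choose_pred_int (m : ℕ) (hm : m ≤ p - 1) :
    ∃ q : ℤ, ((Nat.choose (p - 1) m : ℕ) : ℤ) * (-1) ^ (p - 1 - m) = 1 + (p : ℤ) * q := by
  have h1 := choose_pred_zmod p m hm
  have h2 := neg_one_pow_pred_zmod p
  have h3 : ((-1 : ZMod p)) ^ (p - 1 - m) = (-1) ^ m := by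
    have : ((-1 : ZMod p)) ^ (p - 1 - m) * (-1) ^ m = 1 := by
      rw [← pow_add, Nat.sub_add_cancel hm, h2]
    have h4 : ((-1 : ZMod p)) ^ m * (-1) ^ m = 1 := by
      rw [← mul_pow]; simp
    have hu : IsUnit ((-1 : ZMod p) ^ m) := IsUnit.pow m (isUnit_one.neg)
    exact hu.mul_left_injective (this.trans h4.symm)
  have h5 : (((((Nat.choose (p - 1) m : ℕ) : ℤ) * (-1) ^ (p - 1 - m) - 1 : ℤ)) : ZMod p) = 0 := by
    push_cast
    rw [h3, h1, sub_self]
  rw [ZMod.intCast_zmod_eq_zero_iff_dvd] at h5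
  obtain ⟨q, hq⟩ := h5
  exact ⟨q, by linarith⟩

end Binom


section AdRing

variable {B : Type*} [Ring B]

/-- the commutator `w z - z w`. -/
def adR (w z : B) : B := w * z - z * w

theorem adR_eq_sub (w : B) :
    adR w = fun z => (LinearMap.mulLeft ℤ w - LinearMap.mulRight ℤ w) z := by
  funext z
  rfl

theorem mulLeft_pow_apply (w z : B) (m : ℕ) : ((LinearMap.mulLeft ℤ w) ^ m) z = w ^ m * z := by
  induction m generalizing z with
  | zero => simp
  | succ m ih => rw [pow_succ, Module.End.mul_apply, ih, LinearMap.mulLeft_apply, pow_succ, mul_assoc]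

theorem neg_mulRight_pow_apply (w z : B) (m : ℕ) :
    ((-LinearMap.mulRight ℤ w) ^ m) z = (-1 : ℤ) ^ m • (z * w ^ m) := by
  induction m generalizing z with
  | zero => simp
  | succ m ih =>
    rw [pow_succ, Module.End.mul_apply, ih, LinearMap.neg_apply, LinearMap.mulRight_apply,
      pow_succ, pow_succ, neg_mul, smul_neg, mul_assoc, mul_neg_one, neg_smul]
    congr 2
    rw [(Commute.self_pow w m).eq]

theorem adR_iterate_eq (w z : B) (n : ℕ) :
    (adR w)^[n] z = ∑ m ∈ range (n + 1),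
      ((Nat.choose n m : ℕ) : ℤ) • ((-1 : ℤ) ^ (n - m) • (w ^ m * z * w ^ (n - m))) := by
  have h1 : (adR w)^[n] z = ((LinearMap.mulLeft ℤ w + (-LinearMap.mulRight ℤ w)) ^ n) z := by
    rw [Module.End.pow_apply]
    congr 1
    funext y
    simp [adR, sub_eq_add_neg]
  have hc : Commute (LinearMap.mulLeft ℤ w) (-LinearMap.mulRight ℤ w) :=
    (LinearMap.commute_mulLeft_right w w).neg_right
  rw [h1, hc.add_pow, LinearMap.sum_apply]
  apply Finset.sum_congr rfl
  intro m hm
  rw [Module.End.mul_apply, Module.End.mul_apply, mulLeft_pow_apply]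
  have h2 : ((Nat.choose n m : ℕ) : Module.End ℤ B) z = ((Nat.choose n m : ℕ) : ℤ) • z := by
    rw [Module.End.natCast_apply, natCast_zsmul]
  rw [h2, map_zsmul, neg_mulRight_pow_apply, mul_smul_comm, mul_smul_comm, mul_assoc]


variable (p : ℕ) [hp : Fact p.Prime] (hpB : (p : B) = 0)

include hpB in
theorem zsmul_p_eq_zero (q : ℤ) (y : B) : ((p : ℤ) * q) • y = 0 := by
  rw [mul_smul, zsmul_eq_mul, Int.cast_natCast, hpB, zero_mul]

include hpB in
theorem nsmul_of_dvd {n : ℕ} (h : p ∣ n) (y : B) : ((n : ℕ) : ℤ) • y = 0 := by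
  obtain ⟨q, rfl⟩ := h
  push_cast
  exact zsmul_p_eq_zero p hpB q y

include hpB in
/-- `(ad w)^(p-1) z = ∑ w^m z w^(p-1-m)` in characteristic `p`. -/
theorem adR_iterate_pred (w z : B) :
    (adR w)^[p - 1] z = ∑ m ∈ range p, w ^ m * z * w ^ (p - 1 - m) := by
  rw [adR_iterate_eq, Nat.sub_add_cancel hp.out.one_le]
  apply Finset.sum_congr rfl
  intro m hm
  have hm' : m ≤ p - 1 := by
    have := Finset.mem_range.mp hm
    omega
  obtain ⟨q, hq⟩ := choose_pred_int p m hm'
  rw [← mul_smul, hq, add_smul, one_smul, zsmul_p_eq_zero p hpB, add_zero]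

include hpB in
/-- `(ad w)^p z = w^p z - z w^p` in characteristic `p`. -/
theorem adR_iterate_p (w z : B) :
    (adR w)^[p] z = w ^ p * z - z * w ^ p := by
  rw [adR_iterate_eq]
  have hp0 : (0 : ℕ) ≠ p := hp.out.pos.ne
  rw [Finset.sum_eq_add (0 : ℕ) p hp0]
  · rw [Nat.choose_zero_right, Nat.choose_self, Nat.sub_zero, Nat.sub_self, pow_zero, pow_zero,
      one_mul, mul_one, Nat.cast_one, one_smul, one_smul, one_smul]
    have hneg : ((-1 : ℤ) ^ p) • (z * w ^ p) = -(z * w ^ p) := by
      rcases hp.out.eq_two_or_odd' with h2 | hodd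
      · have hc : ((p : ℕ) : ℤ) = 2 := by rw [h2]; rfl
        have h2' : ((2 : ℤ)) • (z * w ^ p) = 0 := by
          have := zsmul_p_eq_zero p hpB 1 (z * w ^ p)
          rwa [mul_one, hc] at this
        have h1 : (-1 : ℤ) ^ p = 1 := by rw [h2]; norm_num
        rw [h1, one_smul]
        rw [two_smul] at h2'
        exact eq_neg_of_add_eq_zero_left h2'
      · rw [hodd.neg_one_pow, neg_smul, one_smul]
    rw [hneg]
    abel
  · intro m hm hne
    have hm' := Finset.mem_range.mp hm
    have hm0 : m ≠ 0 := hne.1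
    have hmp : m < p := lt_of_le_of_ne (by omega) hne.2
    exact nsmul_of_dvd p hpB (hp.out.dvd_choose_self hm0 hmp) _
  · intro h
    exact absurd (Finset.mem_range.mpr (Nat.succ_pos p)) h
  · intro h
    exact absurd (Finset.mem_range.mpr (Nat.lt_succ_self p)) h

end AdRing

end Groth.Agent.Lib.Helper6.PLieL
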