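import Mathlib
import Groth.Agent.Lib.Helper6.PLieL.AdPow

/-!
# Jacobson's formula in associative algebras of characteristic `p`
-/

set_option linter.unusedSectionVars false
set_option linter.unusedVariables false
set_option linter.unusedSimpArgs false
set_option autoImplicit false
set_option linter.style.haveILetI false
set_option maxHeartbeats 400000

namespace Groth.Agent.Lib.Helper6.PLieL

open Finset Polynomial

section Words

/-- all Bool words of length `n`. -/
def allWords : ℕ → List (List Bool)
  | 0 => [[]]
  | n + 1 => (allWords n).map (false :: ·) ++ (allWords n).map (true :: ·)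

theorem length_of_mem_allWords {n : ℕ} {l : List Bool} (h : l ∈ allWords n) : l.length = n := by
  induction n generalizing l with
  | zero =>
    simp only [allWords, List.mem_singleton] at h
    rw [h]; rfl
  | succ n ih =>
    simp only [allWords, List.mem_append, List.mem_map] at h
    rcases h with ⟨l', hl', rfl⟩ | ⟨l', hl', rfl⟩
    · rw [List.length_cons, ih hl']
    · rw [List.length_cons, ih hl']

theorem sum_ofFn_eq {M : Type*} [AddCommMonoid M] (F : List Bool → M) (n : ℕ) :
    ∑ t : Fin n → Bool, F (List.ofFn t) = ((allWords n).map F).sum := by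
  induction n generalizing F with
  | zero =>
    simp [allWords]
  | succ n ih =>
    rw [← (Fin.consEquiv (fun _ : Fin (n + 1) => Bool)).sum_comp, Fintype.sum_prod_type,
      Fintype.sum_bool]
    simp only [Fin.consEquiv_apply, List.ofFn_succ, Fin.cons_zero, Fin.cons_succ]
    rw [ih (fun l => F (true :: l)), ih (fun l => F (false :: l))]
    simp only [allWords, List.map_append, List.map_map, List.sum_append]
    rw [add_comm]
    rfl

end Words

section Poly

variable {A : Type*} [Ring A]

/-- iterated commutator along a Bool word: `false ↦ u`, `true ↦ v`. -/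
def bwA (u v z : A) : List Bool → A
  | [] => z
  | b :: l => adR (if b then v else u) (bwA u v z l)

theorem adR_add (w a b : A) : adR w (a + b) = adR w a + adR w b := by
  unfold adR; noncomm_ring

theorem adR_zero (w : A) : adR w 0 = 0 := by
  unfold adR; simp

theorem adR_list_sum (w : A) (L : List A) : adR w L.sum = (L.map (adR w)).sum := by
  induction L with
  | nil => simp [adR_zero]
  | cons a L ih => rw [List.sum_cons, adR_add, ih, List.map_cons, List.sum_cons]

/-- the generic element `u + v X`. -/
noncomputable def gen (u v : A) : A[X] := C u + C v * X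

theorem adR_gen_monomial (u v a : A) (c : ℕ) :
    adR (gen u v) (C a * X ^ c) = C (adR u a) * X ^ c + C (adR v a) * X ^ (c + 1) := by
  unfold adR gen
  rw [C_sub, C_sub, C_mul, C_mul, C_mul, C_mul, pow_succ]
  have h1 : X * (C a * X ^ c) = C a * X ^ c * X := by
    rw [X_mul]
  have h2 : (C v * X) * (C a * X ^ c) = C v * C a * X ^ c * X := by
    rw [mul_assoc, h1]; noncomm_ring
  have h3 : (C a * X ^ c) * (C u) = C a * C u * X ^ c := by
    rw [mul_assoc, X_pow_mul_C, mul_assoc]
  have h4 : (C a * X ^ c) * (C v * X) = C a * C v * X ^ c * X := by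
    have h3' : (C a * X ^ c) * (C v) = C a * C v * X ^ c := by
      rw [mul_assoc, X_pow_mul_C, mul_assoc]
    rw [← mul_assoc, h3']
  rw [add_mul, mul_add, h2, h3, h4]
  noncomm_ring

theorem adR_gen_iterate (u v z : A) (n : ℕ) :
    (adR (gen u v))^[n] (C z) =
      ((allWords n).map (fun l => C (bwA u v z l) * X ^ (l.count true))).sum := by
  induction n with
  | zero => simp [allWords, bwA]
  | succ n ih =>
    rw [Function.iterate_succ_apply', ih, adR_list_sum, List.map_map]
    simp only [allWords, List.map_append, List.map_map, List.sum_append]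
    have : ((allWords n).map (adR (gen u v) ∘ fun l => C (bwA u v z l) * X ^ (l.count true))).sum =
        ((allWords n).map (fun l => C (adR u (bwA u v z l)) * X ^ (l.count true) +
          C (adR v (bwA u v z l)) * X ^ (l.count true + 1))).sum := by
      congr 1
      apply List.map_congr_left
      intro l hl
      exact adR_gen_monomial u v _ _
    rw [this, List.sum_map_add]
    congr 1
    all_goals
      congr 1
      apply List.map_congr_left
      intro l hl
      simp [bwA]


theorem derivative_gen (u v : A) : derivative (gen u v) = C v := by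
  unfold gen
  rw [derivative_add, derivative_C, zero_add, derivative_mul, derivative_C, zero_mul, zero_add,
    derivative_X, mul_one]

theorem derivative_gen_pow (u v : A) (n : ℕ) :
    derivative (gen u v ^ n) =
      ∑ k ∈ range n, gen u v ^ k * C v * gen u v ^ (n - 1 - k) := by
  induction n with
  | zero => simp
  | succ n ih =>
    rw [pow_succ, derivative_mul, ih, derivative_gen, Finset.sum_range_succ, Finset.sum_mul]
    congr 1
    · apply Finset.sum_congr rfl
      intro k hk
      have hk' := Finset.mem_range.mp hk
      rw [mul_assoc, ← pow_succ]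
      congr 2
      omega
    · have : n + 1 - 1 - n = 0 := by omega
      rw [this, pow_zero, mul_one]

theorem natDegree_gen_pow_le (u v : A) (n : ℕ) : (gen u v ^ n).natDegree ≤ n := by
  have h1 : (gen u v).natDegree ≤ 1 := by
    unfold gen
    refine (natDegree_add_le _ _).trans ?_
    rw [max_le_iff]
    exact ⟨(natDegree_C u).le.trans (Nat.zero_le 1), (natDegree_C_mul_le v X).trans natDegree_X_le⟩
  calc (gen u v ^ n).natDegree ≤ n * (gen u v).natDegree := natDegree_pow_le
    _ ≤ n * 1 := Nat.mul_le_mul_left n h1
    _ = n := mul_one n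

theorem coeff_gen_pow_zero (u v : A) (n : ℕ) : (gen u v ^ n).coeff 0 = u ^ n := by
  induction n with
  | zero => simp
  | succ n ih =>
    rw [pow_succ, mul_coeff_zero, ih]
    unfold gen
    rw [coeff_add, coeff_C_zero, coeff_C_mul, coeff_X_zero, mul_zero, add_zero, pow_succ]

theorem coeff_gen_pow_top (u v : A) (n : ℕ) : (gen u v ^ n).coeff n = v ^ n := by
  induction n with
  | zero => simp
  | succ n ih =>
    rw [pow_succ]
    unfold gen
    rw [mul_add, coeff_add, coeff_mul_C, ← mul_assoc, coeff_mul_X, coeff_mul_C]
    change (gen u v ^ n).coeff (n + 1) * u + (gen u v ^ n).coeff n * v = v ^ (n + 1)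
    rw [ih, coeff_eq_zero_of_natDegree_lt
      (lt_of_le_of_lt (natDegree_gen_pow_le u v n) (Nat.lt_succ_self n)), zero_mul, zero_add,
      pow_succ]

/-- evaluation at `1` as a ring homomorphism. -/
noncomputable def ev1 : A[X] →+* A :=
  eval₂RingHom' (RingHom.id A) 1 (fun a => Commute.one_right _)

theorem ev1_gen (u v : A) : ev1 (gen u v) = u + v := by
  unfold ev1 gen
  simp

theorem ev1_eq_sum (f : A[X]) (n : ℕ) (hn : f.natDegree < n) :
    ev1 f = ∑ i ∈ range n, f.coeff i := by
  unfold ev1
  rw [eval₂RingHom', RingHom.coe_mk, MonoidHom.coe_mk, OneHom.coe_mk,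
    eval₂_eq_sum_range' (RingHom.id A) hn]
  apply Finset.sum_congr rfl
  intro i hi
  simp

theorem add_pow_eq_sum_coeff (u v : A) (n : ℕ) :
    (u + v) ^ n = ∑ i ∈ range (n + 1), (gen u v ^ n).coeff i := by
  rw [← ev1_gen, ← map_pow]
  exact ev1_eq_sum _ _ (Nat.lt_succ_of_le (natDegree_gen_pow_le u v n))


/-- the sum of the iterated commutators with `i` letters `true`. -/
def Ssum (u v : A) (n i : ℕ) : A :=
  ((allWords n).map (fun l => if l.count true = i then bwA u v v l else 0)).sum

variable (p : ℕ) [hp : Fact p.Prime] (hpA : (p : A) = 0)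

include hpA in
theorem coeff_succ_mul (u v : A) (i : ℕ) :
    (gen u v ^ p).coeff (i + 1) * ((i : A) + 1) = Ssum u v (p - 1) i := by
  have hpX : ((p : ℕ) : A[X]) = 0 := by
    rw [← C_eq_natCast, hpA, C_0]
  have h1 := derivative_gen_pow u v p
  rw [← adR_iterate_pred p hpX (gen u v) (C v), adR_gen_iterate] at h1
  have h2 := congrArg (fun f => f.coeff i) h1
  simp only [coeff_derivative] at h2
  rw [h2, coeff_list_sum_map]
  unfold Ssum
  congr 1
  apply List.map_congr_left
  intro l hl
  rw [coeff_C_mul_X_pow]
  by_cases h : i = l.count true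
  · rw [if_pos h, if_pos h.symm]
  · rw [if_neg h, if_neg (fun h' => h h'.symm)]


/-- regrouping a sum over words by the number of `true`. -/
theorem sum_words_regroup {M : Type*} [AddCommGroup M] {R : Type*} [Ring R] [Module R M]
    (L : List (List Bool)) (n : ℕ) (hL : ∀ l ∈ L, l.count true ≤ n) (g : ℕ → R)
    (a : List Bool → M) :
    (L.map (fun l => g (l.count true) • a l)).sum =
      ∑ i ∈ range (n + 1), g i • (L.map (fun l => if l.count true = i then a l else 0)).sum := by
  induction L with
  | nil => simp
  | cons l L ih =>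
    rw [List.map_cons, List.sum_cons, ih (fun l' hl' => hL l' (List.mem_cons_of_mem _ hl'))]
    simp only [List.map_cons, List.sum_cons, smul_add]
    rw [Finset.sum_add_distrib]
    congr 1
    rw [Finset.sum_eq_single (l.count true)]
    · rw [if_pos rfl]
    · intro i hi hne
      rw [if_neg (fun h => hne h.symm), smul_zero]
    · intro h
      exact absurd (Finset.mem_range.mpr (Nat.lt_succ_of_le (hL l List.mem_cons_self))) h

end Poly

section Alg

variable {R : Type*} [CommRing R] {A : Type*} [Ring A] [Algebra R A]
variable (p : ℕ) [hp : Fact p.Prime] [CharP R p]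

/-- the coefficient `1/r` of the prime field, in `R`. -/
noncomputable def cinv (r : ℕ) : R := (ZMod.castHom (dvd_refl p) R) ((r : ZMod p)⁻¹)

theorem cinv_zero : cinv (R := R) p 0 = 0 := by
  unfold cinv
  simp

theorem cinv_mul (r : ℕ) (hr0 : 0 < r) (hrp : r < p) : cinv (R := R) p r * (r : R) = 1 := by
  unfold cinv
  have h1 : ((r : ZMod p)) ≠ 0 := by
    intro h
    rw [ZMod.natCast_eq_zero_iff] at h
    exact absurd (Nat.le_of_dvd hr0 h) (not_le.mpr hrp)
  have h2 : ((r : ℕ) : R) = (ZMod.castHom (dvd_refl p) R) ((r : ZMod p)) := by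
    rw [map_natCast]
  rw [h2, ← map_mul, inv_mul_cancel₀ h1, map_one]

theorem cinv_neg (i : ℕ) (hi : i + 1 < p) :
    cinv (R := R) p (i + 1) = - cinv (R := R) p (p - 1 - i) := by
  unfold cinv
  have h1 : ((i + 1 : ℕ) : ZMod p) = - ((p - 1 - i : ℕ) : ZMod p) := by
    have : ((i + 1 : ℕ) : ZMod p) + ((p - 1 - i : ℕ) : ZMod p) = 0 := by
      rw [← Nat.cast_add]
      have : i + 1 + (p - 1 - i) = p := by omega
      rw [this]
      exact ZMod.natCast_self p
    exact eq_neg_of_add_eq_zero_left this
  rw [h1, inv_neg, map_neg]

theorem natCast_eq_zero_alg (R : Type*) [CommRing R] (A : Type*) [Ring A] [Algebra R A]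
    (p : ℕ) [CharP R p] : ((p : ℕ) : A) = 0 := by
  have : ((p : ℕ) : A) = algebraMap R A ((p : ℕ) : R) := by rw [map_natCast]
  rw [this, CharP.cast_eq_zero, map_zero]

/-- Jacobson's sum in an associative algebra. -/
noncomputable def jacA (u v : A) : A :=
  ((allWords (p - 1)).map (fun l => cinv (R := R) p (l.count false) • bwA u v v l)).sum

/-- **Jacobson's formula** in an associative algebra of characteristic `p`. -/
theorem add_pow_eq_jacA (u v : A) :
    (u + v) ^ p = u ^ p + v ^ p - jacA (R := R) p u v := by
  have hpA : ((p : ℕ) : A) = 0 := natCast_eq_zero_alg R A p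
  have hp1 : p - 1 + 1 = p := Nat.sub_add_cancel hp.out.one_le
  -- expansion into coefficients
  have e1 : (u + v) ^ p = u ^ p + v ^ p +
      ∑ i ∈ range (p - 1), (gen u v ^ p).coeff (i + 1) := by
    rw [add_pow_eq_sum_coeff, Finset.sum_range_succ', coeff_gen_pow_zero]
    conv_lhs => rw [← hp1, Finset.sum_range_succ, hp1, coeff_gen_pow_top]
    abel
  -- coefficients in terms of Ssum
  have e2 : ∀ i ∈ range (p - 1), (gen u v ^ p).coeff (i + 1) =
      cinv (R := R) p (i + 1) • Ssum u v (p - 1) i := by
    intro i hi
    have hi' := Finset.mem_range.mp hi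
    rw [← coeff_succ_mul p hpA u v i]
    have h3 : ((i : A) + 1) = algebraMap R A ((i + 1 : ℕ) : R) := by
      rw [map_natCast]; push_cast; rfl
    rw [h3, ← Algebra.commutes, ← Algebra.smul_def, ← mul_smul, cinv_mul p (i + 1) (Nat.succ_pos i)
      (by omega), one_smul]
  rw [e1, Finset.sum_congr rfl e2]
  -- the Jacobson sum regrouped
  have e3 : jacA (R := R) p u v =
      ∑ i ∈ range (p - 1 + 1), cinv (R := R) p (p - 1 - i) • Ssum u v (p - 1) i := by
    unfold jacA Ssum
    rw [← sum_words_regroup (allWords (p - 1)) (p - 1) _ (fun i => cinv (R := R) p (p - 1 - i))]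
    · congr 1
      apply List.map_congr_left
      intro l hl
      have hlen := length_of_mem_allWords hl
      have := List.count_false_add_count_true l
      have h4 : l.count false = p - 1 - l.count true := by omega
      rw [h4]
    · intro l hl
      have hlen := length_of_mem_allWords hl
      have := List.count_false_add_count_true l
      omega
  rw [e3, Finset.sum_range_succ, Nat.sub_self, cinv_zero, zero_smul, add_zero]
  have e4 : ∑ i ∈ range (p - 1), cinv (R := R) p (p - 1 - i) • Ssum u v (p - 1) i =
      - ∑ i ∈ range (p - 1), cinv (R := R) p (i + 1) • Ssum u v (p - 1) i := by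
    rw [← Finset.sum_neg_distrib]
    apply Finset.sum_congr rfl
    intro i hi
    have hi' := Finset.mem_range.mp hi
    rw [cinv_neg p i (by omega), neg_smul, neg_neg]
  rw [e4, sub_neg_eq_add]

end Alg

end Groth.Agent.Lib.Helper6.PLieL
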