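import Mathlib

/-!
# The Poincaré–Birkhoff–Witt theorem (helper library for S3312)

Classical proof: build an action of `L` on the free module on multisets of indices.
-/

universe u v w

namespace Groth.Agent.Lib.Helper6.PLieL.PBWR

open Multiset (card)

attribute [local instance 100] LieRing.ofAssociativeRing

set_option linter.unusedSectionVars false

variable {k : Type u} [CommRing k] {L : Type v} [LieRing L] [LieAlgebra k L]
  {ι : Type w} [LinearOrder ι] (b : Module.Basis ι k L)

/-- The basis vector attached to a multiset. -/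
noncomputable def z (s : Multiset ι) : Multiset ι →₀ k := Finsupp.single s 1

/-- A minimal element of a multiset (default value `i` if empty). -/
noncomputable def mn (s : Multiset ι) (i : ι) : ι := ((s.sort (· ≤ ·)).head?).getD i

lemma mn_spec (s : Multiset ι) (i : ι) (hs : s ≠ 0) : mn s i ∈ s ∧ ∀ x ∈ s, mn s i ≤ x := by
  unfold mn
  have hp : (s.sort (· ≤ ·)).Pairwise (· ≤ ·) := Multiset.pairwise_sort s (· ≤ ·)
  have he : ((s.sort (· ≤ ·) : List ι) : Multiset ι) = s := Multiset.sort_eq s (· ≤ ·)
  cases hl : s.sort (· ≤ ·) with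
  | nil =>
    rw [hl] at he
    exact absurd he.symm hs
  | cons j tl =>
    rw [hl] at hp he
    simp only [List.head?_cons, Option.getD_some]
    constructor
    · rw [← he]; simp
    · intro x hx
      rw [← he] at hx
      simp only [Multiset.mem_coe, List.mem_cons] at hx
      rcases hx with rfl | hx
      · exact le_rfl
      · exact (List.pairwise_cons.mp hp).1 x hx

lemma mn_cons (j : ι) (T : Multiset ι) (i : ι) (hj : ∀ x ∈ T, j ≤ x) : mn (j ::ₘ T) i = j := by
  obtain ⟨h1, h2⟩ := mn_spec (j ::ₘ T) i (Multiset.cons_ne_zero)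
  apply le_antisymm (h2 j (Multiset.mem_cons_self j T))
  rcases Multiset.mem_cons.mp h1 with h | h
  · exact h.ge
  · exact hj _ h

/-- Truncated action on basis vectors. -/
noncomputable def actN : ℕ → ι → Multiset ι → (Multiset ι →₀ k)
  | 0, i, s => z (i ::ₘ s)
  | n+1, i, s =>
    if card s ≤ n then actN n i s
    else if ∀ x ∈ s, i ≤ x then z (i ::ₘ s)
    else
      z (i ::ₘ s)
        + Finsupp.linearCombination k (actN n (mn s i))
            (actN n i (s.erase (mn s i)) - z (i ::ₘ s.erase (mn s i)))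
        + Finsupp.linearCombination k (fun l => actN n l (s.erase (mn s i)))
            (b.repr ⁅b i, b (mn s i)⁆)

/-- The action on basis vectors. -/
noncomputable def act (i : ι) (s : Multiset ι) : Multiset ι →₀ k := actN b (card s) i s

/-- The action of a basis element as a linear endomorphism. -/
noncomputable def ρ (i : ι) : (Multiset ι →₀ k) →ₗ[k] (Multiset ι →₀ k) :=
  Finsupp.linearCombination k (act b i)

/-- The action of a general element. -/
noncomputable def ρL : L →ₗ[k] Module.End k (Multiset ι →₀ k) :=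
  (Finsupp.linearCombination k (ρ b)) ∘ₗ b.repr.toLinearMap

lemma ρ_z (i : ι) (s : Multiset ι) : ρ b i (z s) = act b i s := by
  simp [ρ, z]

lemma ρL_basis (i : ι) : ρL b (b i) = ρ b i := by
  simp [ρL]

lemma ρL_apply (x : L) (v : Multiset ι →₀ k) :
    ρL b x v = Finsupp.linearCombination k (fun l => ρ b l v) (b.repr x) := by
  unfold ρL
  rw [LinearMap.comp_apply]
  have := Finsupp.apply_linearCombination k (LinearMap.applyₗ (R := k) v
    (M₂ := Multiset ι →₀ k)) (ρ b) (b.repr x)
  simp only [LinearMap.applyₗ_apply_apply] at this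
  exact this

lemma actN_stab (n : ℕ) (i : ι) (s : Multiset ι) (h : card s ≤ n) : actN b n i s = act b i s := by
  induction n, h using Nat.le_induction with
  | base => rfl
  | succ n hn ih =>
    rw [← ih]
    simp only [actN]
    rw [if_pos hn]

lemma act_of_le (i : ι) (s : Multiset ι) (h : ∀ x ∈ s, i ≤ x) : act b i s = z (i ::ₘ s) := by
  unfold act
  cases hn : card s with
  | zero => rfl
  | succ n =>
    simp only [actN]
    rw [if_neg (by omega), if_pos h]

lemma act_of_not_le (i : ι) (s : Multiset ι) (h : ¬ ∀ x ∈ s, i ≤ x) (n : ℕ) (hn : card s = n + 1) :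
    act b i s = z (i ::ₘ s)
        + Finsupp.linearCombination k (actN b n (mn s i))
            (actN b n i (s.erase (mn s i)) - z (i ::ₘ s.erase (mn s i)))
        + Finsupp.linearCombination k (fun l => actN b n l (s.erase (mn s i)))
            (b.repr ⁅b i, b (mn s i)⁆) := by
  unfold act
  rw [hn]
  simp only [actN]
  rw [if_neg (by omega), if_neg h]


/-- The filtration by the size of multisets. -/
noncomputable def S (n : ℕ) : Submodule k (Multiset ι →₀ k) :=
  Finsupp.supported k k {t : Multiset ι | card t ≤ n}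

lemma z_mem_S {s : Multiset ι} {n : ℕ} (h : card s ≤ n) : (z s : Multiset ι →₀ k) ∈ S n := by
  unfold S z
  exact Finsupp.single_mem_supported k 1 h

lemma S_mono {m n : ℕ} (h : m ≤ n) : (S m : Submodule k (Multiset ι →₀ k)) ≤ S n := by
  unfold S
  apply Finsupp.supported_mono
  intro t ht
  exact le_trans ht h

lemma lc_congr_of_mem_S {M : Type*} [AddCommGroup M] [Module k M] {n : ℕ}
    (f g : Multiset ι → M)
    (hfg : ∀ t, card t ≤ n → f t = g t) {v : Multiset ι →₀ k} (hv : v ∈ S n) :
    Finsupp.linearCombination k f v = Finsupp.linearCombination k g v := by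
  rw [Finsupp.linearCombination_apply, Finsupp.linearCombination_apply]
  apply Finset.sum_congr rfl
  intro t ht
  have : t ∈ {t : Multiset ι | card t ≤ n} := (Finsupp.mem_supported k v).mp hv ht
  simp only [hfg t this]

lemma lc_mem_of_mem_S {M : Type*} [AddCommGroup M] [Module k M] {n : ℕ} (W : Submodule k M)
    (f : Multiset ι → M)
    (hf : ∀ t, card t ≤ n → f t ∈ W) {v : Multiset ι →₀ k} (hv : v ∈ S n) :
    Finsupp.linearCombination k f v ∈ W := by
  rw [Finsupp.linearCombination_apply]
  apply Submodule.sum_mem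
  intro t ht
  have : t ∈ {t : Multiset ι | card t ≤ n} := (Finsupp.mem_supported k v).mp hv ht
  exact W.smul_mem _ (hf t this)

lemma lc_mem {α M : Type*} [AddCommGroup M] [Module k M] (W : Submodule k M)
    (f : α → M) (hf : ∀ t, f t ∈ W) (v : α →₀ k) :
    Finsupp.linearCombination k f v ∈ W := by
  rw [Finsupp.linearCombination_apply]
  apply Submodule.sum_mem
  intro t _
  exact W.smul_mem _ (hf t)

/-- Property (B): the action raises the filtration by one, with known leading term. -/
lemma act_sub_mem (n : ℕ) : ∀ (s : Multiset ι), card s ≤ n → ∀ i : ι,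
    act b i s - z (i ::ₘ s) ∈ S (card s) := by
  induction n with
  | zero =>
    intro s hs i
    have hs0 : s = 0 := by
      rw [← Multiset.card_eq_zero]; omega
    subst hs0
    rw [act_of_le b i 0 (by simp)]
    simp
  | succ n ih =>
    intro s hs i
    by_cases hsn : card s ≤ n
    · exact ih s hsn i
    have hcard : card s = n + 1 := by omega
    by_cases hle : ∀ x ∈ s, i ≤ x
    · rw [act_of_le b i s hle]; simp
    have hs0 : s ≠ 0 := by
      rintro rfl; simp at hcard
    obtain ⟨hj1, hj2⟩ := mn_spec s i hs0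
    set j := mn s i with hj
    have hT : card (s.erase j) = n := by
      rw [Multiset.card_erase_of_mem hj1, hcard]; rfl
    rw [act_of_not_le b i s hle n hcard, hcard]
    have hact : ∀ (l : ι) (t : Multiset ι), card t ≤ n → actN b n l t ∈ S (n + 1) := by
      intro l t ht
      rw [actN_stab b n l t ht]
      have h1 := ih t ht l
      have h2 : (z (l ::ₘ t) : Multiset ι →₀ k) ∈ S (n + 1) :=
        z_mem_S (by rw [Multiset.card_cons]; omega)
      have h3 : act b l t = (act b l t - z (l ::ₘ t)) + z (l ::ₘ t) := by abel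
      rw [h3]
      exact (S (n + 1)).add_mem (S_mono (by omega) h1) h2
    have hw : actN b n i (s.erase j) - z (i ::ₘ s.erase j) ∈ S n := by
      rw [actN_stab b n i _ hT.le]
      have := ih (s.erase j) hT.le i
      rwa [hT] at this
    have e : ∀ a c d : Multiset ι →₀ k, a + c + d - a = c + d := by intro a c d; abel
    rw [e]
    apply (S (n + 1)).add_mem
    · exact lc_mem_of_mem_S (S (n + 1)) _ (fun t ht => hact j t ht) hw
    · exact lc_mem (S (n + 1)) (fun l => actN b n l (s.erase j)) (fun l => hact l _ hT.le) _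

lemma act_sub_mem' (s : Multiset ι) (i : ι) : act b i s - z (i ::ₘ s) ∈ S (card s) :=
  act_sub_mem b (card s) s le_rfl i

lemma act_mem (s : Multiset ι) (i : ι) : act b i s ∈ S (card s + 1) := by
  have h1 := act_sub_mem' b s i
  have h2 : (z (i ::ₘ s) : Multiset ι →₀ k) ∈ S (card s + 1) :=
    z_mem_S (by rw [Multiset.card_cons])
  have h3 : act b i s = (act b i s - z (i ::ₘ s)) + z (i ::ₘ s) := by abel
  rw [h3]
  exact (S (card s + 1)).add_mem (S_mono (by omega) h1) h2

lemma ρ_mem (i : ι) {n : ℕ} {v : Multiset ι →₀ k} (hv : v ∈ S n) : ρ b i v ∈ S (n + 1) := by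
  unfold ρ
  apply lc_mem_of_mem_S (S (n + 1)) _ _ hv
  intro t ht
  exact S_mono (by omega) (act_mem b t i)

lemma ρL_mem (x : L) {n : ℕ} {v : Multiset ι →₀ k} (hv : v ∈ S n) : ρL b x v ∈ S (n + 1) := by
  rw [ρL_apply]
  exact lc_mem _ _ (fun l => ρ_mem b l hv) _

/-- Property (★). -/
lemma act_rec (i : ι) (s : Multiset ι) (h : ¬ ∀ x ∈ s, i ≤ x) :
    act b i s = z (i ::ₘ s)
      + ρ b (mn s i) (act b i (s.erase (mn s i)) - z (i ::ₘ s.erase (mn s i)))
      + ρL b ⁅b i, b (mn s i)⁆ (z (s.erase (mn s i))) := by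
  have hs0 : s ≠ 0 := by
    rintro rfl; simp at h
  obtain ⟨n, hn⟩ : ∃ n, card s = n + 1 := by
    have : card s ≠ 0 := by rwa [Ne, Multiset.card_eq_zero]
    exact ⟨card s - 1, by omega⟩
  obtain ⟨hj1, hj2⟩ := mn_spec s i hs0
  have hT : card (s.erase (mn s i)) = n := by
    rw [Multiset.card_erase_of_mem hj1, hn]; rfl
  rw [act_of_not_le b i s h n hn]
  congr 1
  · congr 1
    rw [actN_stab b n i _ hT.le]
    unfold ρ
    apply lc_congr_of_mem_S (n := n)
    · intro t ht; exact actN_stab b n _ t ht
    · have := act_sub_mem' b (s.erase (mn s i)) i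
      rwa [hT] at this
  · rw [ρL_apply]
    congr 2
    funext l
    rw [actN_stab b n l _ hT.le, ρ_z]

/-- Property (★★). -/
lemma ρ_comm_easy (i j : ι) (T : Multiset ι) (hji : j < i) (hjT : ∀ x ∈ T, j ≤ x) :
    ρ b i (ρ b j (z T)) = ρ b j (ρ b i (z T)) + ρL b ⁅b i, b j⁆ (z T) := by
  have h1 : ρ b j (z T) = z (j ::ₘ T) := by rw [ρ_z, act_of_le b j T hjT]
  have hnot : ¬ ∀ x ∈ (j ::ₘ T), i ≤ x := by
    intro h
    exact absurd (h j (Multiset.mem_cons_self j T)) (not_le.mpr hji)
  have hmn : mn (j ::ₘ T) i = j := mn_cons j T i hjT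
  rw [h1, ρ_z, act_rec b i (j ::ₘ T) hnot, hmn, Multiset.erase_cons_head, map_sub, ρ_z, ρ_z]
  have h2 : act b j (i ::ₘ T) = z (j ::ₘ i ::ₘ T) := by
    apply act_of_le
    intro x hx
    rcases Multiset.mem_cons.mp hx with rfl | hx
    · exact hji.le
    · exact hjT x hx
  rw [h2, Multiset.cons_swap i j T]
  abel


/-- The defect of the Lie-homomorphism property. -/
noncomputable def Ψ : L →ₗ[k] L →ₗ[k] Module.End k (Multiset ι →₀ k) :=
  LinearMap.mk₂ k (fun x y => ρL b x * ρL b y - ρL b y * ρL b x - ρL b ⁅x, y⁆)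
    (by intro x x' y; simp only [map_add, add_mul, mul_add, add_lie]; abel)
    (by intro c x y; simp only [map_smul, smul_mul_assoc, mul_smul_comm, smul_lie]; module)
    (by intro x y y'; simp only [map_add, add_mul, mul_add, lie_add]; abel)
    (by intro c x y; simp only [map_smul, smul_mul_assoc, mul_smul_comm, lie_smul]; module)

lemma Ψ_apply (x y : L) (v : Multiset ι →₀ k) :
    Ψ b x y v = ρL b x (ρL b y v) - ρL b y (ρL b x v) - ρL b ⁅x, y⁆ v := by
  simp [Ψ, LinearMap.mk₂_apply]

lemma Ψ_skew (x y : L) (v : Multiset ι →₀ k) : Ψ b x y v = - Ψ b y x v := by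
  rw [Ψ_apply, Ψ_apply, ← lie_skew x y]
  simp only [map_neg, LinearMap.neg_apply]
  abel

lemma Ψ_self (x : L) (v : Multiset ι →₀ k) : Ψ b x x v = 0 := by
  rw [Ψ_apply, lie_self]; simp

lemma bilin_ext {W : Type*} [AddCommGroup W] [Module k W] (Φ : L →ₗ[k] L →ₗ[k] W)
    (h : ∀ i j, Φ (b i) (b j) = 0) : ∀ x y, Φ x y = 0 := by
  have : Φ = 0 := b.ext fun i => b.ext fun j => by simpa using h i j
  intro x y; rw [this]; rfl

lemma Ψ_ext (v : Multiset ι →₀ k) (h : ∀ i j, Ψ b (b i) (b j) v = 0) : ∀ x y, Ψ b x y v = 0 := by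
  have := bilin_ext b ((Ψ b).compr₂ (LinearMap.applyₗ (R := k) v (M₂ := Multiset ι →₀ k)))
    (by intro i j; simpa using h i j)
  intro x y
  simpa using this x y

lemma Ψ_easy (i j : ι) (T : Multiset ι) (hji : j < i) (hjT : ∀ x ∈ T, j ≤ x) :
    Ψ b (b i) (b j) (z T) = 0 := by
  rw [Ψ_apply, ρL_basis, ρL_basis, ρ_comm_easy b i j T hji hjT]
  abel

lemma Ψ_easy' (i j : ι) (T : Multiset ι) (h : (∀ x ∈ T, j ≤ x) ∨ (∀ x ∈ T, i ≤ x)) :
    Ψ b (b i) (b j) (z T) = 0 := by
  rcases lt_trichotomy i j with hij | hij | hij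
  · rw [Ψ_skew, neg_eq_zero]
    apply Ψ_easy b j i T hij
    rcases h with h | h
    · intro x hx; exact hij.le.trans (h x hx)
    · exact h
  · subst hij; exact Ψ_self b _ _
  · apply Ψ_easy b i j T hij
    rcases h with h | h
    · exact h
    · intro x hx; exact hij.le.trans (h x hx)

lemma Ψ_zero_on_S (n : ℕ) (h : ∀ T : Multiset ι, card T ≤ n → ∀ i j, Ψ b (b i) (b j) (z T) = 0)
    {v : Multiset ι →₀ k} (hv : v ∈ S n) (x y : L) : Ψ b x y v = 0 := by
  have key : ∀ T : Multiset ι, card T ≤ n → ∀ x y, Ψ b x y (z T) = 0 :=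
    fun T hT => Ψ_ext b (z T) (h T hT)
  have hv' : v = Finsupp.linearCombination k (fun t => (z t : Multiset ι →₀ k)) v := by
    unfold z
    rw [Finsupp.linearCombination_apply]
    simp only [Finsupp.smul_single, smul_eq_mul, mul_one]
    exact (Finsupp.sum_single v).symm
  rw [hv', ← LinearMap.comp_apply, ← LinearMap.mem_ker]
  have := lc_mem_of_mem_S (LinearMap.ker ((Ψ b x y : Module.End k _))) (fun t => (z t : Multiset ι →₀ k))
    (fun t ht => by rw [LinearMap.mem_ker]; exact key t ht x y) hv
  exact this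

/-- The commutation relation, by induction on the size of the multiset. -/
lemma Ψ_zero (n : ℕ) : ∀ T : Multiset ι, card T ≤ n → ∀ i j, Ψ b (b i) (b j) (z T) = 0 := by
  induction n with
  | zero =>
    intro T hT i j
    have hT0 : T = 0 := by rw [← Multiset.card_eq_zero]; omega
    subst hT0
    exact Ψ_easy' b i j 0 (Or.inl (by simp))
  | succ n ih =>
    intro T hT i j
    by_cases hTn : card T ≤ n
    · exact ih T hTn i j
    have hcard : card T = n + 1 := by omega
    by_cases hjT : ∀ x ∈ T, j ≤ x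
    · exact Ψ_easy' b i j T (Or.inl hjT)
    by_cases hiT : ∀ x ∈ T, i ≤ x
    · exact Ψ_easy' b i j T (Or.inr hiT)
    have hT0 : T ≠ 0 := by rintro rfl; simp at hcard
    obtain ⟨hl1, hl2⟩ := mn_spec T i hT0
    set l := mn T i with hl
    set P := T.erase l with hP
    have hTP : T = l ::ₘ P := (Multiset.cons_erase hl1).symm
    have hPcard : card P = n := by
      rw [hP, Multiset.card_erase_of_mem hl1, hcard]; rfl
    have hlP : ∀ x ∈ P, l ≤ x := fun x hx => hl2 x (Multiset.mem_of_mem_erase hx)
    have hli : l < i := by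
      push Not at hiT
      obtain ⟨x, hx, hxi⟩ := hiT
      exact (hl2 x hx).trans_lt hxi
    have hlj : l < j := by
      push Not at hjT
      obtain ⟨x, hx, hxj⟩ := hjT
      exact (hl2 x hx).trans_lt hxj
    -- induction hypothesis for general elements
    have IH : ∀ {v : Multiset ι →₀ k}, v ∈ S n → ∀ x y : L, Ψ b x y v = 0 :=
      fun hv x y => Ψ_zero_on_S b n ih hv x y
    have hzP : (z P : Multiset ι →₀ k) ∈ S n := z_mem_S hPcard.le
    have hzT : (z T : Multiset ι →₀ k) = ρL b (b l) (z P) := by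
      rw [ρL_basis, ρ_z, act_of_le b l P hlP, hTP]
    -- Step 1
    have s1 : ∀ a : ι, l < a → ρL b (b a) (ρL b (b l) (z P))
        = ρL b (b l) (ρL b (b a) (z P)) + ρL b ⁅b a, b l⁆ (z P) := by
      intro a hla
      have := Ψ_easy b a l P hla hlP
      rw [Ψ_apply] at this
      rw [← sub_eq_zero, ← this]; abel
    -- Step 2
    have s2 : ∀ a c : ι, l < a → l < c → Ψ b (b a) (b l) (ρL b (b c) (z P)) = 0 := by
      intro a c hla hlc
      have hdecomp : ρL b (b c) (z P) = z (c ::ₘ P) + (act b c P - z (c ::ₘ P)) := by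
        rw [ρL_basis, ρ_z]; abel
      rw [hdecomp, map_add]
      have h1 : Ψ b (b a) (b l) (z (c ::ₘ P)) = 0 := by
        apply Ψ_easy b a l _ hla
        intro x hx
        rcases Multiset.mem_cons.mp hx with rfl | hx
        · exact hlc.le
        · exact hlP x hx
      have h2 : Ψ b (b a) (b l) (act b c P - z (c ::ₘ P)) = 0 := by
        apply IH
        have := act_sub_mem' b P c
        rwa [hPcard] at this
      rw [h1, h2, add_zero]
    -- expansions (1) and (2)
    have e1 : ∀ a c : ι, l < a → l < c → ρL b (b a) (ρL b (b c) (z T))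
        = ρL b (b l) (ρL b (b a) (ρL b (b c) (z P))) + ρL b ⁅b a, b l⁆ (ρL b (b c) (z P))
          + ρL b (b a) (ρL b ⁅b c, b l⁆ (z P)) := by
      intro a c hla hlc
      rw [hzT, s1 c hlc, map_add]
      have := s2 a c hla hlc
      rw [Ψ_apply] at this
      rw [← sub_eq_zero, ← this]; abel
    have h3 := IH hzP (b i) (b j)
    have h4 := IH hzP ⁅b i, b l⁆ (b j)
    have h5 := IH hzP (b i) ⁅b j, b l⁆
    have h6 := IH hzP (b l) ⁅b i, b j⁆
    rw [Ψ_apply] at h3 h4 h5 h6
    have h3' : ρL b (b l) (ρL b (b i) (ρL b (b j) (z P))) - ρL b (b l) (ρL b (b j) (ρL b (b i) (z P)))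
        = ρL b (b l) (ρL b ⁅b i, b j⁆ (z P)) := by
      rw [← map_sub, ← sub_eq_zero, ← map_sub, h3, map_zero]
    have jac : ⁅b l, ⁅b i, b j⁆⁆ + ⁅⁅b i, b l⁆, b j⁆ + ⁅b i, ⁅b j, b l⁆⁆ = 0 := by
      rw [leibniz_lie (b l) (b i) (b j), ← lie_skew (b i) (b l), ← lie_skew (b j) (b l)]
      simp only [neg_lie, lie_neg]
      abel
    have hjac : ρL b ⁅b l, ⁅b i, b j⁆⁆ (z P) + ρL b ⁅⁅b i, b l⁆, b j⁆ (z P)
        + ρL b ⁅b i, ⁅b j, b l⁆⁆ (z P) = 0 := by
      rw [← LinearMap.add_apply, ← LinearMap.add_apply, ← map_add, ← map_add, jac, map_zero]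
      rfl
    rw [Ψ_apply, e1 i j hli hlj, e1 j i hlj hli]
    rw [hzT]
    have h3'' := sub_eq_zero.mpr h3'
    -- assemble
    have : ρL b (b l) (ρL b (b i) (ρL b (b j) (z P))) + ρL b ⁅b i, b l⁆ (ρL b (b j) (z P))
          + ρL b (b i) (ρL b ⁅b j, b l⁆ (z P))
        - (ρL b (b l) (ρL b (b j) (ρL b (b i) (z P))) + ρL b ⁅b j, b l⁆ (ρL b (b i) (z P))
          + ρL b (b j) (ρL b ⁅b i, b l⁆ (z P)))
        - ρL b ⁅b i, b j⁆ (ρL b (b l) (z P))
        = (ρL b (b l) (ρL b (b i) (ρL b (b j) (z P))) - ρL b (b l) (ρL b (b j) (ρL b (b i) (z P)))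
            - ρL b (b l) (ρL b ⁅b i, b j⁆ (z P)))
          + (ρL b ⁅b i, b l⁆ (ρL b (b j) (z P)) - ρL b (b j) (ρL b ⁅b i, b l⁆ (z P))
            - ρL b ⁅⁅b i, b l⁆, b j⁆ (z P))
          + (ρL b (b i) (ρL b ⁅b j, b l⁆ (z P)) - ρL b ⁅b j, b l⁆ (ρL b (b i) (z P))
            - ρL b ⁅b i, ⁅b j, b l⁆⁆ (z P))
          + (ρL b (b l) (ρL b ⁅b i, b j⁆ (z P)) - ρL b ⁅b i, b j⁆ (ρL b (b l) (z P))
            - ρL b ⁅b l, ⁅b i, b j⁆⁆ (z P))
          + (ρL b ⁅b l, ⁅b i, b j⁆⁆ (z P) + ρL b ⁅⁅b i, b l⁆, b j⁆ (z P)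
            + ρL b ⁅b i, ⁅b j, b l⁆⁆ (z P)) := by abel
    rw [this, h3'', h4, h5, h6, hjac]
    simp


lemma Ψ_all (x y : L) (v : Multiset ι →₀ k) : Ψ b x y v = 0 := by
  have hv' : v = Finsupp.linearCombination k (fun t => (z t : Multiset ι →₀ k)) v := by
    unfold z
    rw [Finsupp.linearCombination_apply]
    simp only [Finsupp.smul_single, smul_eq_mul, mul_one]
    exact (Finsupp.sum_single v).symm
  rw [hv', ← LinearMap.mem_ker]
  apply lc_mem
  intro t
  rw [LinearMap.mem_ker]
  exact Ψ_ext b (z t) (Ψ_zero b (card t) t le_rfl) x y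

/-- The Lie algebra homomorphism `L → End(V)`. -/
noncomputable def ρLie : L →ₗ⁅k⁆ Module.End k (Multiset ι →₀ k) :=
  { ρL b with
    map_lie' := by
      intro x y
      rw [LieRing.of_associative_ring_bracket]
      apply LinearMap.ext
      intro v
      have := Ψ_all b x y v
      rw [Ψ_apply, sub_eq_zero] at this
      simp only [AddHom.toFun_eq_coe, LinearMap.coe_toAddHom, LinearMap.sub_apply,
        Module.End.mul_apply]
      exact this.symm }

lemma ρLie_apply (x : L) : ρLie b x = ρL b x := rfl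

variable (k) in
/-- The generators of the enveloping algebra. -/
noncomputable def ε (i : ι) : UniversalEnvelopingAlgebra k L := UniversalEnvelopingAlgebra.ι k (b i)

/-- The representation of the enveloping algebra on `V`. -/
noncomputable def F : UniversalEnvelopingAlgebra k L →ₐ[k] Module.End k (Multiset ι →₀ k) :=
  UniversalEnvelopingAlgebra.lift k (ρLie b)

lemma F_ι (x : L) : F b (UniversalEnvelopingAlgebra.ι k x) = ρL b x := by
  unfold F
  rw [UniversalEnvelopingAlgebra.lift_ι_apply]
  rfl

lemma F_ε (i : ι) : F b (ε k b i) = ρ b i := by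
  unfold ε
  rw [F_ι, ρL_basis]

/-- The monomial attached to a list of indices. -/
noncomputable def mono (l : List ι) : UniversalEnvelopingAlgebra k L :=
  (l.map fun i => UniversalEnvelopingAlgebra.ι k (b i)).prod

lemma mono_nil : mono b ([] : List ι) = (1 : UniversalEnvelopingAlgebra k L) := by
  simp [mono]

lemma mono_cons (i : ι) (l : List ι) : mono b (i :: l) = ε k b i * mono b l := by
  simp [mono, ε]

/-- The ordered monomial attached to a multiset. -/
noncomputable def M (s : Multiset ι) : UniversalEnvelopingAlgebra k L :=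
  mono b (s.sort (· ≤ ·))

lemma M_cons (i : ι) (s : Multiset ι) (h : ∀ x ∈ s, i ≤ x) : M b (i ::ₘ s) = ε k b i * M b s := by
  unfold M
  rw [Multiset.sort_cons (r := (· ≤ ·)) (a := i) (s := s) h, mono_cons]

lemma M_zero : M b (0 : Multiset ι) = (1 : UniversalEnvelopingAlgebra k L) := by
  unfold M
  rw [Multiset.sort_zero, mono_nil]

lemma F_mono_sorted (l : List ι) (hl : l.Pairwise (· ≤ ·)) :
    F b (mono b l) (z 0) = z (l : Multiset ι) := by
  induction l with
  | nil => simp [mono_nil]
  | cons i l ih =>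
    rw [List.pairwise_cons] at hl
    rw [mono_cons, map_mul, Module.End.mul_apply, ih hl.2, F_ε, ρ_z, act_of_le b i _ (by
      intro x hx; exact hl.1 x (Multiset.mem_coe.mp hx))]
    rfl

lemma F_M (s : Multiset ι) : F b (M b s) (z 0) = z s := by
  unfold M
  rw [F_mono_sorted b _ (Multiset.pairwise_sort s (· ≤ ·)), Multiset.sort_eq]

/-- The comparison map `V → U`. -/
noncomputable def G : (Multiset ι →₀ k) →ₗ[k] UniversalEnvelopingAlgebra k L :=
  Finsupp.linearCombination k (M b)

lemma G_z (s : Multiset ι) : G b (z s) = M b s := by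
  simp [G, z]

/-- Evaluation at the vacuum vector. -/
noncomputable def ev : UniversalEnvelopingAlgebra k L →ₗ[k] (Multiset ι →₀ k) :=
  (LinearMap.applyₗ (R := k) (z (0 : Multiset ι) : Multiset ι →₀ k)) ∘ₗ (F b).toLinearMap

lemma ev_apply (u : UniversalEnvelopingAlgebra k L) : ev b u = F b u (z 0) := rfl

lemma ev_G (v : Multiset ι →₀ k) : ev b (G b v) = v := by
  have : (ev b) ∘ₗ (G b) = LinearMap.id := by
    apply Finsupp.lhom_ext'
    intro s
    apply LinearMap.ext_ring
    simp only [LinearMap.coe_comp, Function.comp_apply, Finsupp.lsingle_apply, LinearMap.id_comp]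
    change ev b (G b (z s)) = z s
    rw [G_z, ev_apply, F_M]
  exact LinearMap.congr_fun this v

lemma ε_comm (i j : ι) : ε k b i * ε k b j
    = ε k b j * ε k b i + UniversalEnvelopingAlgebra.ι k ⁅b i, b j⁆ := by
  unfold ε
  rw [LieHom.map_lie, LieRing.of_associative_ring_bracket]
  abel

lemma ι_mul_G (x : L) (v : Multiset ι →₀ k) :
    UniversalEnvelopingAlgebra.ι k x * G b v
      = Finsupp.linearCombination k (fun l => ε k b l * G b v) (b.repr x) := by
  have hx : UniversalEnvelopingAlgebra.ι k x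
      = Finsupp.linearCombination k (fun l => ε k b l) (b.repr x) := by
    conv_lhs => rw [← b.linearCombination_repr x]
    rw [Finsupp.linearCombination_apply, Finsupp.linearCombination_apply, Finsupp.sum, map_sum]
    simp only [map_smul]
    rfl
  rw [hx, Finsupp.linearCombination_apply, Finsupp.linearCombination_apply, Finsupp.sum,
    Finset.sum_mul]
  simp only [smul_mul_assoc]
  rfl

/-- Equivariance of `G` on basis vectors. -/
lemma G_act (n : ℕ) : ∀ s : Multiset ι, card s ≤ n → ∀ i, G b (act b i s) = ε k b i * M b s := by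
  induction n with
  | zero =>
    intro s hs i
    have hs0 : s = 0 := by rw [← Multiset.card_eq_zero]; omega
    subst hs0
    rw [act_of_le b i 0 (by simp), G_z, M_cons b i 0 (by simp)]
  | succ n ih =>
    intro s hs i
    by_cases hsn : card s ≤ n
    · exact ih s hsn i
    have hcard : card s = n + 1 := by omega
    by_cases hle : ∀ x ∈ s, i ≤ x
    · rw [act_of_le b i s hle, G_z, M_cons b i s hle]
    have hs0 : s ≠ 0 := by rintro rfl; simp at hcard
    obtain ⟨hj1, hj2⟩ := mn_spec s i hs0
    rw [act_rec b i s hle]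
    set j := mn s i with hj
    set T := s.erase j with hT
    have hsT : s = j ::ₘ T := (Multiset.cons_erase hj1).symm
    have hTcard : card T = n := by
      rw [hT, Multiset.card_erase_of_mem hj1, hcard]; rfl
    have hjT : ∀ x ∈ T, j ≤ x := fun x hx => hj2 x (Multiset.mem_of_mem_erase hx)
    have hji : j < i := by
      push Not at hle
      obtain ⟨x, hx, hxi⟩ := hle
      exact (hj2 x hx).trans_lt hxi
    -- equivariance on S n
    have equiv : ∀ (l : ι) {v : Multiset ι →₀ k}, v ∈ S n → G b (ρ b l v) = ε k b l * G b v := by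
      intro l v hv
      have h1 : G b (ρ b l v) = Finsupp.linearCombination k (fun t => G b (act b l t)) v := by
        unfold ρ
        exact Finsupp.apply_linearCombination k (G b) (act b l) v
      have h2 : ε k b l * G b v = Finsupp.linearCombination k (fun t => ε k b l * M b t) v := by
        unfold G
        have := Finsupp.apply_linearCombination k (LinearMap.mulLeft k (ε k b l)) (M b) v
        simp only [LinearMap.mulLeft_apply] at this
        exact this
      rw [h1, h2]
      exact lc_congr_of_mem_S _ _ (fun t ht => ih t ht l) hv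
    have hw : act b i T - z (i ::ₘ T) ∈ S n := by
      have := act_sub_mem' b T i
      rwa [hTcard] at this
    rw [map_add, map_add, G_z, equiv j hw, map_sub, ih T hTcard.le i, G_z]
    have h1 : M b (i ::ₘ s) = ε k b j * M b (i ::ₘ T) := by
      rw [hsT, Multiset.cons_swap i j T]
      apply M_cons
      intro x hx
      rcases Multiset.mem_cons.mp hx with rfl | hx
      · exact hji.le
      · exact hjT x hx
    have h2 : G b (ρL b ⁅b i, b j⁆ (z T)) = UniversalEnvelopingAlgebra.ι k ⁅b i, b j⁆ * M b T := by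
      rw [ρL_apply, ← G_z b T, ι_mul_G]
      rw [Finsupp.apply_linearCombination]
      congr 2
      funext l
      simp only [Function.comp_apply]
      rw [ρ_z, ih T hTcard.le l, G_z]
    have h3 : M b s = ε k b j * M b T := by
      rw [hsT]; exact M_cons b j T hjT
    rw [h2, h1, h3, ← mul_assoc (ε k b i), ε_comm b i j, add_mul, mul_sub, mul_assoc]
    abel

lemma G_ρ (i : ι) (v : Multiset ι →₀ k) : G b (ρ b i v) = ε k b i * G b v := by
  have h1 : G b (ρ b i v) = Finsupp.linearCombination k (fun t => G b (act b i t)) v := by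
    unfold ρ
    exact Finsupp.apply_linearCombination k (G b) (act b i) v
  have h2 : ε k b i * G b v = Finsupp.linearCombination k (fun t => ε k b i * M b t) v := by
    unfold G
    have := Finsupp.apply_linearCombination k (LinearMap.mulLeft k (ε k b i)) (M b) v
    simp only [LinearMap.mulLeft_apply] at this
    exact this
  rw [h1, h2]
  congr 2
  funext t
  exact G_act b (card t) t le_rfl i

lemma G_ρL (x : L) (v : Multiset ι →₀ k) :
    G b (ρL b x v) = UniversalEnvelopingAlgebra.ι k x * G b v := by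
  rw [ρL_apply, ι_mul_G, Finsupp.apply_linearCombination]
  congr 2
  funext l
  simp only [Function.comp_apply]
  exact G_ρ b l v

lemma U_induction {C : UniversalEnvelopingAlgebra k L → Prop}
    (h0 : ∀ r : k, C (algebraMap k _ r)) (h1 : ∀ x : L, C (UniversalEnvelopingAlgebra.ι k x))
    (hmul : ∀ a c, C a → C c → C (a * c)) (hadd : ∀ a c, C a → C c → C (a + c)) :
    ∀ u, C u := by
  intro u
  obtain ⟨t, rfl⟩ : ∃ t, UniversalEnvelopingAlgebra.mkAlgHom k L t = u := by
    induction u using Quotient.inductionOn with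
    | h t => exact ⟨t, rfl⟩
  induction t using TensorAlgebra.induction with
  | algebraMap r => rw [AlgHom.commutes]; exact h0 r
  | ι x => exact h1 x
  | mul a c ha hc => rw [map_mul]; exact hmul _ _ ha hc
  | add a c ha hc => rw [map_add]; exact hadd _ _ ha hc

lemma G_F (u : UniversalEnvelopingAlgebra k L) :
    ∀ v : Multiset ι →₀ k, G b (F b u v) = u * G b v := by
  induction u using U_induction with
  | h0 r =>
    intro v
    rw [AlgHom.commutes, Module.algebraMap_end_apply, map_smul, Algebra.smul_def]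
  | h1 x =>
    intro v
    rw [F_ι, G_ρL]
  | hmul a c ha hc =>
    intro v
    rw [map_mul, Module.End.mul_apply, ha, hc, mul_assoc]
  | hadd a c ha hc =>
    intro v
    rw [map_add, LinearMap.add_apply, map_add, ha, hc, add_mul]

lemma G_ev (u : UniversalEnvelopingAlgebra k L) : G b (ev b u) = u := by
  rw [ev_apply, G_F, G_z, M_zero, mul_one]

/-- The linear equivalence `V ≃ U`. -/
noncomputable def Gequiv : (Multiset ι →₀ k) ≃ₗ[k] UniversalEnvelopingAlgebra k L :=
  LinearEquiv.ofLinearMap (f := G b) (g := ev b)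
    (LinearMap.ext fun u => G_ev b u) (LinearMap.ext fun v => ev_G b v)

/-- Sorted lists are the same as multisets. -/
noncomputable def sortedEquiv : {l : List ι // l.SortedLE} ≃ Multiset ι where
  toFun l := (l.1 : Multiset ι)
  invFun s := ⟨s.sort (· ≤ ·), (Multiset.pairwise_sort s (· ≤ ·)).sortedLE⟩
  left_inv l := by
    apply Subtype.ext
    simp only [Multiset.coe_sort]
    exact List.mergeSort_eq_self (r := (· ≤ ·)) l.2.pairwise
  right_inv s := Multiset.sort_eq s (· ≤ ·)

/-- The Poincaré–Birkhoff–Witt basis. -/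
noncomputable def pbwBasis :
    Module.Basis {l : List ι // l.SortedLE} k (UniversalEnvelopingAlgebra k L) :=
  ((Finsupp.basisSingleOne (R := k) (ι := Multiset ι)).map (Gequiv b)).reindex (sortedEquiv).symm

theorem pbwBasis_apply (l : {l : List ι // l.SortedLE}) :
    pbwBasis b l = (l.1.map fun i => UniversalEnvelopingAlgebra.ι k (b i)).prod := by
  unfold pbwBasis
  rw [Module.Basis.reindex_apply, Equiv.symm_symm, Module.Basis.map_apply,
    Finsupp.coe_basisSingleOne]
  change G b (z (l.1 : Multiset ι)) = _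
  rw [G_z]
  unfold M mono
  rw [Multiset.coe_sort, List.mergeSort_eq_self (r := (· ≤ ·)) l.2.pairwise]

end Groth.Agent.Lib.Helper6.PLieL.PBWR
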