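import Mathlib
import Groth.Agent.Lib.Helper6.PLieL.PBWR

/-!
# Injectivity of `L → U(L)` for a free Lie algebra over a commutative ring
-/

set_option linter.unusedSectionVars false
set_option linter.unusedVariables false
set_option linter.unusedSimpArgs false
set_option autoImplicit false
set_option linter.style.haveILetI false
set_option maxHeartbeats 400000

universe u v w

namespace Groth.Agent.Lib.Helper6.PLieL

open PBWR

attribute [local instance 100] LieRing.ofAssociativeRing

variable {k : Type u} [CommRing k] {L : Type v} [LieRing L] [LieAlgebra k L]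
  {ι : Type w}

theorem ev_ι [LinearOrder ι] (b : Module.Basis ι k L) (x : L) :
    ev b (UniversalEnvelopingAlgebra.ι k x) =
      Finsupp.linearCombination k (fun l : ι => z (k := k) ({l} : Multiset ι)) (b.repr x) := by
  rw [ev_apply, F_ι, ρL_apply]
  congr 2
  funext l
  rw [ρ_z, act_of_le]
  · rfl
  · intro y hy
    simp at hy

theorem ι_injective_of_order [LinearOrder ι] (b : Module.Basis ι k L) :
    Function.Injective (UniversalEnvelopingAlgebra.ι k : L → UniversalEnvelopingAlgebra k L) := by
  rw [injective_iff_map_eq_zero]
  intro x hx
  have h1 := ev_ι b x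
  rw [hx, map_zero] at h1
  apply b.repr.injective
  rw [map_zero]
  ext j
  have h2 := congrArg (fun f => f ({j} : Multiset ι)) h1
  simp only [Finsupp.coe_zero, Pi.zero_apply] at h2
  rw [Finsupp.linearCombination_apply, Finsupp.sum, Finsupp.finsetSum_apply] at h2
  rw [Finsupp.coe_zero, Pi.zero_apply]
  rw [Finset.sum_eq_single j] at h2
  · unfold z at h2
    rw [Finsupp.smul_apply, Finsupp.single_eq_same, smul_eq_mul, mul_one] at h2
    exact h2.symm
  · intro i hi hne
    unfold z
    rw [Finsupp.smul_apply, Finsupp.single_eq_of_ne, smul_zero]
    intro h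
    exact hne (Multiset.singleton_inj.mp h.symm)
  · intro hj
    rw [Finsupp.notMem_support_iff] at hj
    rw [hj, zero_smul]
    rfl

theorem ι_injective (b : Module.Basis ι k L) :
    Function.Injective (UniversalEnvelopingAlgebra.ι k : L → UniversalEnvelopingAlgebra k L) := by
  classical
  letI : LinearOrder ι := linearOrderOfSTO WellOrderingRel
  exact ι_injective_of_order b

end Groth.Agent.Lib.Helper6.PLieL
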