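import Mathlib
import Groth.Prelude.Def_PLie
import Groth.Agent.Lib.Helper6.PLieL.AssocJac
import Groth.Agent.Lib.Helper6.PLieL.IotaInj

/-!
# Jacobson's theorem: `p`-mappings on free Lie algebras from values on a basis
-/

set_option linter.unusedSectionVars false
set_option linter.unusedVariables false
set_option linter.unusedSimpArgs false
set_option autoImplicit false
set_option linter.style.haveILetI false
set_option maxHeartbeats 400000

universe u v w

namespace Groth.Agent.Lib.Helper6.PLieL

open PBWR

attribute [local instance 100] LieRing.ofAssociativeRing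

section Card

theorem card_filter_false (n : ℕ) (t : Fin n → Bool) :
    (Finset.univ.filter (fun i => t i = false)).card = (List.ofFn t).count false := by
  induction n with
  | zero => simp
  | succ n ih =>
    rw [Finset.card_filter, Fin.sum_univ_succ, ← Finset.card_filter, ih (fun i => t i.succ),
      List.ofFn_succ, List.count_cons]
    cases h : t 0 <;> simp [add_comm]

theorem card_false_eq {n : ℕ} (t : Fin n → Bool) [inst : Fintype {i // t i = false}] :
    Fintype.card {i // t i = false} = (List.ofFn t).count false := by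
  rw [← card_filter_false]
  exact Fintype.card_of_subtype _ (by simp)

end Card

variable {R : Type u} [CommRing R] {L : Type v} [LieRing L] [LieAlgebra R L]

local notation "ιU" => UniversalEnvelopingAlgebra.ι R (L := L)

theorem adR_ι (x z : L) : adR (ιU x) (ιU z) = ιU ⁅x, z⁆ := by
  rw [LieHom.map_lie, LieRing.of_associative_ring_bracket]
  rfl

theorem adR_ι_iterate (x z : L) (n : ℕ) :
    (adR (ιU x))^[n] (ιU z) = ιU ((LieAlgebra.ad R L x ^ n) z) := by
  induction n with
  | zero => simp
  | succ n ih =>
    rw [Function.iterate_succ_apply', ih, adR_ι, pow_succ', Module.End.mul_apply,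
      LieAlgebra.ad_apply]

theorem ι_bracketWord (x y : L) (w : List Bool) :
    ιU (PLie.bracketWord (PLie.pair x y) y w) = bwA (ιU x) (ιU y) (ιU y) w := by
  induction w with
  | nil => rfl
  | cons c l ih =>
    rw [PLie.bracketWord_cons, ← adR_ι, ih]
    cases c <;> rfl

theorem ι_jacobson (p : ℕ) [Fact p.Prime] [CharP R p] (x y : L) :
    ιU (PLie.jacobson R p x y) = jacA (R := R) p (ιU x) (ιU y) := by
  unfold PLie.jacobson jacA
  rw [map_sum, ← sum_ofFn_eq]
  apply Finset.sum_congr rfl
  intro t _
  rw [map_smul, ι_bracketWord, card_false_eq]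
  rfl

section Jac

variable (p : ℕ) [hp : Fact p.Prime] [CharP R p] {ι : Type w} (b : Module.Basis ι R L)
  (y : ι → L)

/-- the central elements `b_i^p - y_i` of `U(L)`. -/
noncomputable def ξ (i : ι) : UniversalEnvelopingAlgebra R L := (ιU (b i)) ^ p - ιU (y i)

/-- the `p`-semilinear central correction. -/
noncomputable def fC (x : L) : UniversalEnvelopingAlgebra R L :=
  (b.repr x).sum (fun i a => a ^ p • ξ p b y i)

theorem fC_add (x x' : L) : fC p b y (x + x') = fC p b y x + fC p b y x' := by
  unfold fC
  rw [map_add, Finsupp.sum_add_index']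
  · intro i
    rw [zero_pow hp.out.ne_zero, zero_smul]
  · intro i a a'
    rw [add_pow_char, add_smul]

theorem fC_smul (c : R) (x : L) : fC p b y (c • x) = c ^ p • fC p b y x := by
  unfold fC
  rw [map_smul, Finsupp.sum_smul_index', Finsupp.smul_sum]
  · apply Finsupp.sum_congr
    intro i _
    rw [smul_eq_mul, mul_pow, mul_smul]
  · intro i
    rw [zero_pow hp.out.ne_zero, zero_smul]

theorem fC_zero : fC p b y 0 = 0 := by
  unfold fC
  rw [map_zero, Finsupp.sum_zero_index]

theorem fC_basis (i : ι) : fC p b y (b i) = ξ p b y i := by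
  unfold fC
  rw [b.repr_self, Finsupp.sum_single_index, one_pow, one_smul]
  rw [zero_pow hp.out.ne_zero, zero_smul]

theorem exists_pre (x : L) : ∃ y' : L, ιU y' = (ιU x) ^ p - fC p b y x := by
  have hW : ∀ x ∈ (⊤ : Submodule R L), ∃ y' : L, ιU y' = (ιU x) ^ p - fC p b y x := by
    rw [← b.span_eq]
    intro x hx
    induction hx using Submodule.span_induction with
    | mem x hx =>
      obtain ⟨i, rfl⟩ := hx
      refine ⟨y i, ?_⟩
      rw [fC_basis]
      unfold ξ
      abel
    | zero =>
      refine ⟨0, ?_⟩
      rw [map_zero, zero_pow hp.out.ne_zero, fC_zero, sub_zero]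
    | add x x' _ _ hx hx' =>
      obtain ⟨a, ha⟩ := hx
      obtain ⟨a', ha'⟩ := hx'
      refine ⟨a + a' - PLie.jacobson R p x x', ?_⟩
      rw [map_sub, map_add, ha, ha', ι_jacobson, map_add, add_pow_eq_jacA (R := R), fC_add]
      abel
    | smul c x _ hx =>
      obtain ⟨a, ha⟩ := hx
      refine ⟨c ^ p • a, ?_⟩
      rw [map_smul, ha, map_smul, smul_pow, fC_smul, smul_sub]
  exact hW x Submodule.mem_top

/-- the `p`-mapping. -/
noncomputable def phi (x : L) : L := Classical.choose (exists_pre p b y x)

theorem ι_phi (x : L) : ιU (phi p b y x) = (ιU x) ^ p - fC p b y x :=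
  Classical.choose_spec (exists_pre p b y x)

theorem phi_basis (i : ι) : phi p b y (b i) = y i := by
  apply ι_injective b
  rw [ι_phi, fC_basis]
  unfold ξ
  abel

variable (hy : ∀ i : ι, LieAlgebra.ad R L (b i) ^ p = LieAlgebra.ad R L (y i))

include hy in
theorem ξ_comm_ι (i : ι) (z : L) : Commute (ξ p b y i) (ιU z) := by
  have h1 := adR_iterate_p p (natCast_eq_zero_alg R (UniversalEnvelopingAlgebra R L) p)
    (ιU (b i)) (ιU z)
  rw [adR_ι_iterate, hy i, LieAlgebra.ad_apply, ← adR_ι] at h1
  unfold adR at h1
  unfold ξ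
  show _ * _ = _ * _
  rw [sub_mul, mul_sub]
  linear_combination (norm := abel) h1.symm

include hy in
theorem ξ_central (i : ι) (u : UniversalEnvelopingAlgebra R L) : Commute (ξ p b y i) u := by
  induction u using U_induction with
  | h0 r => exact Algebra.commute_algebraMap_right r _
  | h1 x => exact ξ_comm_ι p b y hy i x
  | hmul a c ha hc => exact ha.mul_right hc
  | hadd a c ha hc => exact ha.add_right hc

include hy in
theorem fC_central (x : L) (u : UniversalEnvelopingAlgebra R L) : Commute (fC p b y x) u := by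
  unfold fC Finsupp.sum
  apply Commute.sum_left
  intro i _
  exact (ξ_central p b y hy i u).smul_left _

/-- Jacobson's `p`-mapping with prescribed values on a basis. -/
noncomputable def pmap : PLie.PMap R p L where
  toFun := phi p b y
  map_smul c x := by
    apply ι_injective b
    rw [ι_phi, map_smul, map_smul, ι_phi, smul_pow, fC_smul, smul_sub]
  ad_map x := by
    ext z
    apply ι_injective b
    rw [LieAlgebra.ad_apply, ← adR_ι, ι_phi, ← adR_ι_iterate,
      adR_iterate_p p (natCast_eq_zero_alg R (UniversalEnvelopingAlgebra R L) p)]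
    unfold adR
    have := fC_central p b y hy x (ιU z)
    rw [sub_mul, mul_sub, this.eq]
    abel
  map_add x x' := by
    apply ι_injective b
    rw [ι_phi, map_sub, map_add, map_add, ι_phi, ι_phi, ι_jacobson, add_pow_eq_jacA (R := R),
      fC_add]
    abel

theorem pmap_apply (x : L) : (pmap p b y hy) x = phi p b y x := rfl

theorem pmap_zero (φ : PLie.PMap R p L) : φ.toFun 0 = 0 := by
  have := φ.map_smul 0 0
  rw [zero_smul, zero_pow hp.out.ne_zero, zero_smul] at this
  exact this

theorem pmap_ext_basis (φ φ' : PLie.PMap R p L) (h : ∀ i, φ.toFun (b i) = φ'.toFun (b i)) :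
    φ = φ' := by
  have key : ∀ x ∈ (⊤ : Submodule R L), φ.toFun x = φ'.toFun x := by
    rw [← b.span_eq]
    intro x hx
    induction hx using Submodule.span_induction with
    | mem x hx =>
      obtain ⟨i, rfl⟩ := hx
      exact h i
    | zero => rw [pmap_zero, pmap_zero]
    | add x x' _ _ hx hx' => rw [φ.map_add, φ'.map_add, hx, hx']
    | smul c x _ hx => rw [φ.map_smul, φ'.map_smul, hx]
  cases φ
  cases φ'
  congr
  funext x
  exact key x Submodule.mem_top

include hy in
/-- **Jacobson's theorem.** -/
theorem existsUnique_pmap :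
    ∃! φ : PLie.PMap R p L, ∀ i : ι, φ (b i) = y i := by
  refine ⟨pmap p b y hy, phi_basis p b y, ?_⟩
  intro φ' hφ'
  apply pmap_ext_basis p b
  intro i
  exact (hφ' i).trans (phi_basis p b y i).symm

end Jac

section RankOne

variable (v : L) (f : L →ₗ[R] L →ₗ[R] R) (hf : ∀ x y : L, ⁅x, y⁆ = f x y • v)

include hf in
theorem ad_pow_of_bracket (x z : L) (n : ℕ) :
    (LieAlgebra.ad R L x ^ (n + 1)) z = (f x z * f x v ^ n) • v := by
  induction n with
  | zero => rw [zero_add, pow_one, LieAlgebra.ad_apply, hf, pow_zero, mul_one]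
  | succ n ih =>
    rw [pow_succ', Module.End.mul_apply, ih, map_smul, LieAlgebra.ad_apply, hf x v, smul_smul,
      pow_succ, mul_assoc]

include hf in
theorem ad_pow_eq_ad (p : ℕ) (hp : 1 ≤ p) (x : L) :
    LieAlgebra.ad R L x ^ p = LieAlgebra.ad R L ((f x v) ^ (p - 1) • x) := by
  ext z
  obtain ⟨n, rfl⟩ : ∃ n, p = n + 1 := ⟨p - 1, by omega⟩
  rw [ad_pow_of_bracket v f hf, Nat.add_sub_cancel, LieAlgebra.ad_apply, smul_lie, hf, smul_smul,
    mul_comm]

end RankOne

end Groth.Agent.Lib.Helper6.PLieL
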