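import Mathlib
import Groth.Agent.Lib.Helper6.PLieL.Main

/-!
# Restrictability criterion via Jacobson's theorem; three-dimensional matrices
-/

set_option linter.unusedSectionVars false
set_option linter.unusedVariables false
set_option linter.unusedSimpArgs false
set_option autoImplicit false
set_option linter.style.haveILetI false
set_option linter.unnecessarySeqFocus false
set_option maxHeartbeats 400000

universe u v w

namespace Groth.Agent.Lib.Helper6.PLieL

attribute [local instance 100] LieRing.ofAssociativeRing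

section Crit

variable {R : Type u} [CommRing R] (p : ℕ) [hp : Fact p.Prime] [CharP R p]
  {L : Type v} [LieRing L] [LieAlgebra R L] {ι : Type w} (b : Module.Basis ι R L)

theorem nonempty_pmap_iff :
    Nonempty (PLie.PMap R p L) ↔
      ∀ i, ∃ w : L, LieAlgebra.ad R L (b i) ^ p = LieAlgebra.ad R L w := by
  constructor
  · rintro ⟨φ⟩ i
    exact ⟨φ (b i), (φ.ad_map (b i)).symm⟩
  · intro h
    choose y hy using h
    obtain ⟨φ, -, -⟩ := existsUnique_pmap p b y hy
    exact ⟨φ⟩

variable [Fintype ι] [DecidableEq ι]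

theorem nonempty_pmap_iff_matrix :
    Nonempty (PLie.PMap R p L) ↔ ∀ i, ∃ c : ι → R,
      (LinearMap.toMatrix b b (LieAlgebra.ad R L (b i))) ^ p =
        ∑ j, c j • LinearMap.toMatrix b b (LieAlgebra.ad R L (b j)) := by
  rw [nonempty_pmap_iff p b]
  apply forall_congr'
  intro i
  constructor
  · rintro ⟨w, hw⟩
    refine ⟨fun j => b.repr w j, ?_⟩
    rw [LinearMap.toMatrix_pow, hw]
    conv_lhs => rw [← b.sum_repr w]
    rw [map_sum, map_sum]
    apply Finset.sum_congr rfl
    intro j _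
    rw [map_smul, map_smul]
  · rintro ⟨c, hc⟩
    refine ⟨∑ j, c j • b j, ?_⟩
    apply (LinearMap.toMatrix b b).injective
    rw [← LinearMap.toMatrix_pow, hc, map_sum, map_sum]
    apply Finset.sum_congr rfl
    intro j _
    rw [map_smul, map_smul]

end Crit

section Three

variable {R : Type u} [CommRing R] {L : Type v} [LieRing L] [LieAlgebra R L]
  (bs : Module.Basis (Fin 3) R L) (u v w : Fin 3 → R)
  (hxy : ⁅bs 0, bs 1⁆ = u 0 • bs 0 + u 1 • bs 1 + u 2 • bs 2)
  (hxz : ⁅bs 0, bs 2⁆ = v 0 • bs 0 + v 1 • bs 1 + v 2 • bs 2)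
  (hyz : ⁅bs 1, bs 2⁆ = w 0 • bs 0 + w 1 • bs 1 + w 2 • bs 2)

/-- the matrices of `ad x`, `ad y`, `ad z` from the structure constants. -/
def Amat : Fin 3 → Matrix (Fin 3) (Fin 3) R :=
  ![!![0, u 0, v 0; 0, u 1, v 1; 0, u 2, v 2],
    !![- u 0, 0, w 0; - u 1, 0, w 1; - u 2, 0, w 2],
    !![- v 0, - w 0, 0; - v 1, - w 1, 0; - v 2, - w 2, 0]]

include hxy hxz in
theorem adx_matrix : LinearMap.toMatrix bs bs (LieAlgebra.ad R L (bs 0)) =
    !![0, u 0, v 0; 0, u 1, v 1; 0, u 2, v 2] := by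
  ext i j
  rw [LinearMap.toMatrix_apply, LieAlgebra.ad_apply]
  fin_cases j
  · fin_cases i <;> simp
  · simp only [Fin.mk_one, Fin.isValue]
    rw [hxy]
    fin_cases i <;> simp
  · simp only [Fin.reduceFinMk, Fin.isValue]
    rw [hxz]
    fin_cases i <;> simp

include hxy hyz in
theorem ady_matrix : LinearMap.toMatrix bs bs (LieAlgebra.ad R L (bs 1)) =
    !![- u 0, 0, w 0; - u 1, 0, w 1; - u 2, 0, w 2] := by
  ext i j
  rw [LinearMap.toMatrix_apply, LieAlgebra.ad_apply]
  fin_cases j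
  · simp only [Fin.zero_eta, Fin.isValue]
    rw [← lie_skew, hxy]
    fin_cases i <;> simp
  · fin_cases i <;> simp
  · simp only [Fin.reduceFinMk, Fin.isValue]
    rw [hyz]
    fin_cases i <;> simp

include hxz hyz in
theorem adz_matrix : LinearMap.toMatrix bs bs (LieAlgebra.ad R L (bs 2)) =
    !![- v 0, - w 0, 0; - v 1, - w 1, 0; - v 2, - w 2, 0] := by
  ext i j
  rw [LinearMap.toMatrix_apply, LieAlgebra.ad_apply]
  fin_cases j
  · simp only [Fin.zero_eta, Fin.isValue]
    rw [← lie_skew, hxz]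
    fin_cases i <;> simp
  · simp only [Fin.mk_one, Fin.isValue]
    rw [← lie_skew, hyz]
    fin_cases i <;> simp
  · fin_cases i <;> simp

include hxy hxz hyz in
theorem ad_matrix (i : Fin 3) :
    LinearMap.toMatrix bs bs (LieAlgebra.ad R L (bs i)) = Amat u v w i := by
  fin_cases i
  · exact adx_matrix bs u v hxy hxz
  · exact ady_matrix bs u w hxy hyz
  · exact adz_matrix bs v w hxz hyz

include hxy hxz hyz in
/-- the Jacobi identity in matrix form. -/
theorem jacobi_matrix :
    u 0 • Amat u v w 0 + u 1 • Amat u v w 1 + u 2 • Amat u v w 2 =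
      Amat u v w 0 * Amat u v w 1 - Amat u v w 1 * Amat u v w 0 := by
  have h1 : LinearMap.toMatrix bs bs (LieAlgebra.ad R L ⁅bs 0, bs 1⁆) =
      u 0 • LinearMap.toMatrix bs bs (LieAlgebra.ad R L (bs 0)) +
        u 1 • LinearMap.toMatrix bs bs (LieAlgebra.ad R L (bs 1)) +
        u 2 • LinearMap.toMatrix bs bs (LieAlgebra.ad R L (bs 2)) := by
    rw [hxy]
    simp only [map_add, map_smul]
  have h2 : LinearMap.toMatrix bs bs (LieAlgebra.ad R L ⁅bs 0, bs 1⁆) =
      LinearMap.toMatrix bs bs (LieAlgebra.ad R L (bs 0)) *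
        LinearMap.toMatrix bs bs (LieAlgebra.ad R L (bs 1)) -
      LinearMap.toMatrix bs bs (LieAlgebra.ad R L (bs 1)) *
        LinearMap.toMatrix bs bs (LieAlgebra.ad R L (bs 0)) := by
    rw [LieHom.map_lie, LieRing.of_associative_ring_bracket, map_sub, LinearMap.toMatrix_mul,
      LinearMap.toMatrix_mul]
  rw [h1] at h2
  rw [ad_matrix bs u v w hxy hxz hyz 0, ad_matrix bs u v w hxy hxz hyz 1,
    ad_matrix bs u v w hxy hxz hyz 2] at h2
  exact h2

include hxy hxz hyz in
theorem nonempty_pmap_iff_three (p : ℕ) [hp : Fact p.Prime] [CharP R p] :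
    Nonempty (PLie.PMap R p L) ↔ ∀ i, ∃ c : Fin 3 → R,
      (Amat u v w i) ^ p = c 0 • Amat u v w 0 + c 1 • Amat u v w 1 + c 2 • Amat u v w 2 := by
  rw [nonempty_pmap_iff_matrix p bs]
  apply forall_congr'
  intro i
  apply exists_congr
  intro c
  rw [Fin.sum_univ_three, ad_matrix bs u v w hxy hxz hyz, ad_matrix bs u v w hxy hxz hyz,
    ad_matrix bs u v w hxy hxz hyz, ad_matrix bs u v w hxy hxz hyz]

end Three

end Groth.Agent.Lib.Helper6.PLieL
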