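import Mathlib
import Groth.Prelude.Def_CartDual

/-!
# Left-invariant derivations of the dual of a finite cocommutative Hopf algebra
-/

set_option linter.unusedSectionVars false
set_option linter.unusedVariables false
set_option linter.unusedSimpArgs false
set_option autoImplicit false
set_option linter.style.haveILetI false
set_option maxHeartbeats 400000

universe u v

namespace Groth.Agent.Lib.Helper6.PLieL.DL

open TensorProduct CartDual

variable {k : Type u} [Field k] {H : Type v} [Ring H] [HopfAlgebra k H] [Module.Finite k H]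

local notation "𝔇" => CartDual.D k H

theorem D_ext {f g : 𝔇} (h : ∀ a : H, f a = g a) : f = g := by
  apply WithConv.ext
  apply LinearMap.ext
  exact h

/-- transpose of right multiplication by `x`. -/
noncomputable def Rmul (x : H) : 𝔇 →ₗ[k] 𝔇 :=
  (CartDual.toDual k H).symm.toLinearMap ∘ₗ (LinearMap.mulRight k x).dualMap ∘ₗ
    (CartDual.toDual k H).toLinearMap

theorem Rmul_apply (x : H) (f : 𝔇) (a : H) : (Rmul x f) a = f (a * x) := rfl

theorem Rmul_add (x x' : H) : Rmul (k := k) (x + x') = Rmul x + Rmul x' := by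
  apply LinearMap.ext
  intro f
  apply D_ext
  intro a
  rw [Rmul_apply, mul_add, map_add]
  rfl

theorem Rmul_smul (c : k) (x : H) : Rmul (k := k) (c • x) = c • Rmul x := by
  apply LinearMap.ext
  intro f
  apply D_ext
  intro a
  rw [Rmul_apply, mul_smul_comm, map_smul]
  rfl

theorem Rmul_mul (x x' : H) : Rmul (k := k) (x * x') = Rmul x ∘ₗ Rmul x' := by
  apply LinearMap.ext
  intro f
  apply D_ext
  intro a
  rw [Rmul_apply, LinearMap.comp_apply, Rmul_apply, Rmul_apply, mul_assoc]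

theorem Rmul_one : Rmul (k := k) (1 : H) = LinearMap.id := by
  apply LinearMap.ext
  intro f
  apply D_ext
  intro a
  rw [Rmul_apply, mul_one]
  rfl

theorem Rmul_pow (x : H) (n : ℕ) : Rmul (k := k) (x ^ n) = (Rmul x) ^ n := by
  induction n with
  | zero => rw [pow_zero, pow_zero, Rmul_one]; rfl
  | succ n ih => rw [pow_succ, Rmul_mul, ih, pow_succ]; rfl

theorem Rmul_sub (x x' : H) : Rmul (k := k) (x - x') = Rmul x - Rmul x' := by
  have h := Rmul_add (k := k) (x - x') x'
  rw [sub_add_cancel] at h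
  rw [h]
  abel

theorem eq_zero_of_Rmul_eq_zero (x : H) (h : Rmul (k := k) x = 0) : x = 0 := by
  rw [← Module.forall_dual_apply_eq_zero_iff k]
  intro φ
  have h1 : (Rmul x ((CartDual.toDual k H).symm φ)) 1 = 0 := by rw [h]; rfl
  rw [Rmul_apply, one_mul] at h1
  exact h1

theorem mul_apply (f g : 𝔇) (a : H) :
    (f * g) a = LinearMap.mul' k k (TensorProduct.map f.ofConv g.ofConv (Coalgebra.comul a)) :=
  rfl

theorem one_apply (a : H) : (1 : 𝔇) a = Coalgebra.counit (R := k) a := by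
  rw [coe_apply, LinearMap.convOne_def]
  simp

theorem map_mul_tmul_right (f g : 𝔇) (x : H) (T : H ⊗[k] H) :
    LinearMap.mul' k k (TensorProduct.map f.ofConv g.ofConv (T * (x ⊗ₜ[k] (1 : H)))) =
      LinearMap.mul' k k (TensorProduct.map (Rmul x f).ofConv g.ofConv T) := by
  induction T using TensorProduct.induction_on with
  | zero => simp
  | tmul a c =>
    rw [Algebra.TensorProduct.tmul_mul_tmul, mul_one, TensorProduct.map_tmul,
      TensorProduct.map_tmul]
    rfl
  | add T T' h h' => rw [add_mul, map_add, map_add, h, h', map_add, map_add]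

theorem map_mul_tmul_left (f g : 𝔇) (x : H) (T : H ⊗[k] H) :
    LinearMap.mul' k k (TensorProduct.map f.ofConv g.ofConv (T * ((1 : H) ⊗ₜ[k] x))) =
      LinearMap.mul' k k (TensorProduct.map f.ofConv (Rmul x g).ofConv T) := by
  induction T using TensorProduct.induction_on with
  | zero => simp
  | tmul a c =>
    rw [Algebra.TensorProduct.tmul_mul_tmul, mul_one, TensorProduct.map_tmul,
      TensorProduct.map_tmul]
    rfl
  | add T T' h h' => rw [add_mul, map_add, map_add, h, h', map_add, map_add]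

/-- Leibniz rule for right translation by a primitive element. -/
theorem Rmul_mul_of_primitive (x : H)
    (hx : Coalgebra.comul (R := k) x = x ⊗ₜ[k] 1 + 1 ⊗ₜ[k] x) (f g : 𝔇) :
    Rmul x (f * g) = Rmul x f * g + f * Rmul x g := by
  apply D_ext
  intro a
  rw [Rmul_apply, mul_apply, Bialgebra.comul_mul, hx, mul_add, map_add, map_add,
    map_mul_tmul_right, map_mul_tmul_left]
  rfl

theorem ev₂_lTensor_Rmul (x : H) (Y : 𝔇 ⊗[k] 𝔇) (a c : H) :
    ev₂ k H ((Rmul x).lTensor 𝔇 Y) (a ⊗ₜ c) = ev₂ k H Y (a ⊗ₜ (c * x)) := by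
  induction Y using TensorProduct.induction_on with
  | zero => simp
  | tmul f g =>
    rw [LinearMap.lTensor_tmul, ev₂_tmul, ev₂_tmul, Rmul_apply]
  | add Y Y' h h' => rw [map_add, map_add, LinearMap.add_apply, h, h', map_add,
      LinearMap.add_apply]

/-- right translations are left-invariant. -/
theorem Rmul_leftInvariant (x : H) :
    (Coalgebra.comul (R := k) (A := 𝔇)) ∘ₗ Rmul x =
      LinearMap.lTensor 𝔇 (Rmul x) ∘ₗ (Coalgebra.comul (R := k) (A := 𝔇)) := by
  apply LinearMap.ext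
  intro f
  apply (ev₂ k H).injective
  apply TensorProduct.ext'
  intro a c
  rw [LinearMap.comp_apply, LinearMap.comp_apply, ev₂_lTensor_Rmul,
    ev₂_coalgebra_comul_tmul, ev₂_coalgebra_comul_tmul, Rmul_apply, mul_assoc]

section Conv

variable [Coalgebra.IsCocomm k H]

/-- the derivation of the dual attached to a primitive element. -/
noncomputable def RDer (x : H) (hx : Coalgebra.comul (R := k) x = x ⊗ₜ[k] 1 + 1 ⊗ₜ[k] x) :
    Derivation k 𝔇 𝔇 where
  toLinearMap := Rmul x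
  map_one_eq_zero' := by
    apply D_ext
    intro a
    rw [Rmul_apply, one_apply, Bialgebra.counit_mul]
    have h0 : Coalgebra.counit (R := k) x = 0 := by
      have h1 := congrArg (fun T => TensorProduct.lid k k
        (TensorProduct.map (Coalgebra.counit (R := k)) (Coalgebra.counit (R := k)) T)) hx
      simp only [map_add, TensorProduct.map_tmul, TensorProduct.lid_tmul, smul_eq_mul,
        Bialgebra.counit_one, mul_one, one_mul] at h1
      have h2 : TensorProduct.lid k k (TensorProduct.map (Coalgebra.counit (R := k))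
          (Coalgebra.counit (R := k)) (Coalgebra.comul (R := k) x)) =
          Coalgebra.counit (R := k) x := by
        have h3 := Coalgebra.rTensor_counit_comul (R := k) x
        have h4 := congrArg (fun T => TensorProduct.lid k k
          (LinearMap.lTensor k (Coalgebra.counit (R := k)) T)) h3
        simp only [LinearMap.lTensor_tmul, TensorProduct.lid_tmul, smul_eq_mul, one_mul] at h4
        rw [← h4]
        generalize Coalgebra.comul (R := k) x = T
        induction T using TensorProduct.induction_on with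
        | zero => simp
        | tmul a c => simp
        | add T T' h h' => simp only [map_add, h, h']
      rw [h2] at h1
      exact add_eq_right.mp h1.symm
    rw [h0, mul_zero]
    rfl
  leibniz' f g := by
    show Rmul x (f * g) = f * Rmul x g + g * Rmul x f
    rw [Rmul_mul_of_primitive x hx, add_comm, mul_comm g]

theorem RDer_toLinearMap (x : H) (hx : Coalgebra.comul (R := k) x = x ⊗ₜ[k] 1 + 1 ⊗ₜ[k] x) :
    (RDer x hx).toLinearMap = Rmul x := rfl

theorem RDer_apply (x : H) (hx : Coalgebra.comul (R := k) x = x ⊗ₜ[k] 1 + 1 ⊗ₜ[k] x) (f : 𝔇) :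
    RDer x hx f = Rmul x f := rfl

theorem ev₂_lTensor_apply_one (D : 𝔇 →ₗ[k] 𝔇) (x : H) (hx : ∀ f : 𝔇, (D f) 1 = f x)
    (Y : 𝔇 ⊗[k] 𝔇) (a : H) :
    ev₂ k H (D.lTensor 𝔇 Y) (a ⊗ₜ (1 : H)) = ev₂ k H Y (a ⊗ₜ x) := by
  induction Y using TensorProduct.induction_on with
  | zero => simp
  | tmul f g =>
    rw [LinearMap.lTensor_tmul, ev₂_tmul, ev₂_tmul, hx]
  | add Y Y' h h' => rw [map_add, map_add, LinearMap.add_apply, h, h', map_add,
      LinearMap.add_apply]

theorem exists_point (d : 𝔇 →ₗ[k] k) : ∃ x : H, ∀ f : 𝔇, f x = d f := by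
  refine ⟨(Module.evalEquiv k H).symm (d ∘ₗ (CartDual.toDual k H).symm.toLinearMap), ?_⟩
  intro f
  have := Module.apply_evalEquiv_symm_apply (R := k) (M := H) (CartDual.toDual k H f)
    (d ∘ₗ (CartDual.toDual k H).symm.toLinearMap)
  rw [LinearMap.comp_apply, LinearEquiv.coe_coe, LinearEquiv.symm_apply_apply] at this
  exact this

theorem ev₂_tmul_apply (f g : 𝔇) (T : H ⊗[k] H) :
    ev₂ k H (f ⊗ₜ g) T = LinearMap.mul' k k (TensorProduct.map f.ofConv g.ofConv T) := by
  rw [ev₂_tmul_eq']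
  rfl

theorem tensor_eq_zero_of_forall (T : H ⊗[k] H) (h : ∀ f g : 𝔇, ev₂ k H (f ⊗ₜ g) T = 0) :
    T = 0 := by
  rw [← Module.forall_dual_apply_eq_zero_iff k]
  intro φ
  obtain ⟨Y, rfl⟩ := (ev₂ k H).surjective φ
  induction Y using TensorProduct.induction_on with
  | zero => simp
  | tmul f g => exact h f g
  | add Y Y' hY hY' => rw [map_add, LinearMap.add_apply, hY, hY', add_zero]

/-- a left-invariant derivation of the dual is right translation by a primitive element. -/
theorem exists_primitive_of_leftInvariant (D : Derivation k 𝔇 𝔇)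
    (hD : (Coalgebra.comul (R := k) (A := 𝔇)) ∘ₗ D.toLinearMap =
      LinearMap.lTensor 𝔇 D.toLinearMap ∘ₗ (Coalgebra.comul (R := k) (A := 𝔇))) :
    ∃ x : H, Coalgebra.comul (R := k) x = x ⊗ₜ[k] 1 + 1 ⊗ₜ[k] x ∧ D.toLinearMap = Rmul x := by
  obtain ⟨x, hx⟩ := exists_point
    ((Coalgebra.counit (R := k) (A := 𝔇)) ∘ₗ D.toLinearMap)
  have hx' : ∀ f : 𝔇, (D.toLinearMap f) 1 = f x := by
    intro f
    rw [hx f]
    rfl
  have hDR : D.toLinearMap = Rmul x := by
    apply LinearMap.ext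
    intro f
    apply D_ext
    intro a
    have h1 := congrArg (fun Φ : 𝔇 →ₗ[k] 𝔇 ⊗[k] 𝔇 => ev₂ k H (Φ f) (a ⊗ₜ (1 : H))) hD
    simp only [LinearMap.comp_apply] at h1
    rw [ev₂_coalgebra_comul_tmul, mul_one, ev₂_lTensor_apply_one D.toLinearMap x hx',
      ev₂_coalgebra_comul_tmul] at h1
    rw [h1, Rmul_apply]
  refine ⟨x, ?_, hDR⟩
  rw [← sub_eq_zero]
  apply tensor_eq_zero_of_forall
  intro f g
  rw [map_sub, map_add, ev₂_tmul_apply, ev₂_tmul_apply, ev₂_tmul_apply, ← mul_apply,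
    TensorProduct.map_tmul, TensorProduct.map_tmul]
  simp only [LinearMap.mul'_apply]
  -- (f * g) x = (D (f * g)) 1
  have h2 : (f * g) x = (D.toLinearMap (f * g)) 1 := (hx' (f * g)).symm
  have h3 : D.toLinearMap (f * g) = f * D.toLinearMap g + g * D.toLinearMap f := by
    have := D.leibniz f g
    simpa [smul_eq_mul] using this
  have hmul1 : ∀ a c : 𝔇, (a * c) 1 = a 1 * c 1 := fun a c => counit_mul' k H a c
  rw [h2, h3]
  have h4 : (f * D.toLinearMap g + g * D.toLinearMap f) (1 : H) =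
      (f * D.toLinearMap g) 1 + (g * D.toLinearMap f) 1 := rfl
  rw [h4, hmul1, hmul1, hx', hx']
  show f 1 * g x + g 1 * f x - (f x * g 1 + f 1 * g x) = 0
  ring

end Conv

section Height

variable [Coalgebra.IsCocomm k H] (p : ℕ) [hp : Fact p.Prime] [CharP k p]

theorem mul_apply_one (f g : 𝔇) : (f * g) 1 = f 1 * g 1 := counit_mul' k H f g

theorem pow_apply_one (f : 𝔇) (n : ℕ) : (f ^ n) 1 = (f 1) ^ n := by
  induction n with
  | zero =>
    rw [pow_zero, pow_zero, one_apply, Bialgebra.counit_one]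
  | succ n ih => rw [pow_succ, mul_apply_one, ih, pow_succ]

theorem mul_apply_primitive (ℓ : H)
    (hℓ : Coalgebra.comul (R := k) ℓ = ℓ ⊗ₜ[k] 1 + 1 ⊗ₜ[k] ℓ) (f g : 𝔇) :
    (f * g) ℓ = f ℓ * g 1 + f 1 * g ℓ := by
  rw [mul_apply, hℓ, map_add, map_add, TensorProduct.map_tmul, TensorProduct.map_tmul]
  rfl

theorem pow_apply_primitive (ℓ : H)
    (hℓ : Coalgebra.comul (R := k) ℓ = ℓ ⊗ₜ[k] 1 + 1 ⊗ₜ[k] ℓ) (g : 𝔇) (n : ℕ) :
    (g ^ (n + 1)) ℓ = ((n + 1 : ℕ) : k) * ((g 1) ^ n * g ℓ) := by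
  induction n with
  | zero =>
    rw [zero_add, pow_one, pow_zero, one_mul, Nat.cast_one, one_mul]
  | succ n ih =>
    rw [pow_succ, mul_apply_primitive ℓ hℓ, ih, pow_apply_one]
    push_cast
    ring

theorem pow_p_apply_primitive (ℓ : H)
    (hℓ : Coalgebra.comul (R := k) ℓ = ℓ ⊗ₜ[k] 1 + 1 ⊗ₜ[k] ℓ) (g : 𝔇) :
    (g ^ p) ℓ = 0 := by
  obtain ⟨n, hn⟩ : ∃ n, p = n + 1 := ⟨p - 1, (Nat.sub_add_cancel hp.out.one_le).symm⟩
  rw [hn, pow_apply_primitive ℓ hℓ, ← hn, CharP.cast_eq_zero, zero_mul]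

theorem charP_tensorD : CharP (𝔇 ⊗[k] 𝔇) p :=
  charP_of_injective_algebraMap (Bialgebra.algebraMap_injective (R := k) (𝔇 ⊗[k] 𝔇)) p

theorem ev₂_pow_p (ℓ : H)
    (hℓ : Coalgebra.comul (R := k) ℓ = ℓ ⊗ₜ[k] 1 + 1 ⊗ₜ[k] ℓ) (x : H) (T : 𝔇 ⊗[k] 𝔇) :
    ev₂ k H (T ^ p) (ℓ ⊗ₜ x) = 0 := by
  haveI := charP_tensorD (k := k) (H := H) p
  induction T using TensorProduct.induction_on with
  | zero =>
    have e : ((0 : 𝔇 ⊗[k] 𝔇)) ^ p = 0 := zero_pow (M₀ := 𝔇 ⊗[k] 𝔇) hp.out.ne_zero
    exact (congrArg (fun Y => ev₂ k H Y (ℓ ⊗ₜ x)) e).trans (by rw [map_zero]; rfl)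
  | tmul f g =>
    rw [Algebra.TensorProduct.tmul_pow, ev₂_tmul, pow_p_apply_primitive p ℓ hℓ, zero_mul]
  | add T T' h h' =>
    have e : (T + T') ^ p = T ^ p + T' ^ p := add_pow_char T T' p
    refine (congrArg (fun Y => ev₂ k H Y (ℓ ⊗ₜ x)) e).trans ?_
    show ev₂ k H (T ^ p + T' ^ p) (ℓ ⊗ₜ x) = 0
    rw [map_add, LinearMap.add_apply, h, h', add_zero]

theorem pow_p_apply_mul (ℓ : H)
    (hℓ : Coalgebra.comul (R := k) ℓ = ℓ ⊗ₜ[k] 1 + 1 ⊗ₜ[k] ℓ) (f : 𝔇) (x : H) :
    (f ^ p) (ℓ * x) = 0 := by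
  rw [← ev₂_coalgebra_comul_tmul, Bialgebra.comul_pow]
  exact ev₂_pow_p p ℓ hℓ x _

end Height

end Groth.Agent.Lib.Helper6.PLieL.DL
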