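import Mathlib
import Groth.Agent.Lib.Helper6.PLieL.Dim3

/-!
# First-order deformations of the Heisenberg algebra: restrictability
-/

set_option linter.unusedSectionVars false
set_option linter.unusedVariables false
set_option linter.unusedSimpArgs false
set_option autoImplicit false
set_option linter.style.haveILetI false
set_option linter.unnecessarySeqFocus false
set_option maxHeartbeats 1000000

universe u v w

namespace Groth.Agent.Lib.Helper6.PLieL.H3

open DualNumber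

variable {K : Type u} [Field K] (a b c d e f g h i : K)

/-- matrix of `ad x`. -/
def Hx : Matrix (Fin 3) (Fin 3) (DualNumber K) :=
  !![0, a • ε, d • ε; 0, b • ε, e • ε; 0, c • ε, f • ε]
/-- matrix of `ad y`. -/
def Hy : Matrix (Fin 3) (Fin 3) (DualNumber K) :=
  !![- (a • ε), 0, 1 + g • ε; - (b • ε), 0, h • ε; - (c • ε), 0, i • ε]
/-- matrix of `ad z`. -/
def Hz : Matrix (Fin 3) (Fin 3) (DualNumber K) :=
  !![- (d • ε), - (1 + g • ε), 0; - (e • ε), - (h • ε), 0; - (f • ε), - (i • ε), 0]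

theorem Hx_sq : Hx a b c d e f ^ 2 = 0 := by
  unfold Hx
  rw [pow_two]
  ext r s <;> fin_cases r <;> fin_cases s <;>
    simp [Matrix.mul_apply, Fin.sum_univ_three]

theorem Hy_sq : Hy a b c g h i ^ 2 =
    !![- (c • ε), 0, (i - a) • ε; 0, 0, -(b • ε); 0, 0, -(c • ε)] := by
  unfold Hy
  rw [pow_two]
  ext r s <;> fin_cases r <;> fin_cases s <;>
    simp [Matrix.mul_apply, Fin.sum_univ_three] <;> try ring

theorem Hy_cube : Hy a b c g h i ^ 3 = (-(c • ε) : DualNumber K) • Hy a b c g h i := by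
  rw [pow_succ, Hy_sq]
  unfold Hy
  ext r s <;> fin_cases r <;> fin_cases s <;>
    simp [Matrix.mul_apply, Fin.sum_univ_three] <;> try ring

theorem Hy_four : Hy a b c g h i ^ 4 = 0 := by
  rw [pow_succ, Hy_cube, Matrix.smul_mul, ← pow_two, Hy_sq]
  ext r s <;> fin_cases r <;> fin_cases s <;>
    simp [Matrix.mul_apply, Fin.sum_univ_three] <;> try ring

theorem Hz_sq : Hz d e f g h i ^ 2 =
    !![e • ε, (h + d) • ε, 0; 0, e • ε, 0; 0, f • ε, 0] := by
  unfold Hz
  rw [pow_two]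
  ext r s <;> fin_cases r <;> fin_cases s <;>
    simp [Matrix.mul_apply, Fin.sum_univ_three] <;> try ring

theorem Hz_cube : Hz d e f g h i ^ 3 = ((e • ε) : DualNumber K) • Hz d e f g h i := by
  rw [pow_succ, Hz_sq]
  unfold Hz
  ext r s <;> fin_cases r <;> fin_cases s <;>
    simp [Matrix.mul_apply, Fin.sum_univ_three] <;> try ring

theorem Hz_four : Hz d e f g h i ^ 4 = 0 := by
  rw [pow_succ, Hz_cube, Matrix.smul_mul, ← pow_two, Hz_sq]
  ext r s <;> fin_cases r <;> fin_cases s <;>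
    simp [Matrix.mul_apply, Fin.sum_univ_three] <;> try ring

theorem pow_eq_zero_of_four {n : ℕ} {M : Matrix (Fin 3) (Fin 3) (DualNumber K)} (hM : M ^ 4 = 0)
    (hn : 4 ≤ n) : M ^ n = 0 := by
  obtain ⟨k, rfl⟩ := Nat.exists_eq_add_of_le hn
  rw [pow_add, hM, zero_mul]

theorem pow_eq_zero_of_two {n : ℕ} {M : Matrix (Fin 3) (Fin 3) (DualNumber K)} (hM : M ^ 2 = 0)
    (hn : 2 ≤ n) : M ^ n = 0 := by
  obtain ⟨k, rfl⟩ := Nat.exists_eq_add_of_le hn
  rw [pow_add, hM, zero_mul]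

theorem Hy_sq' : Hy a 0 0 g h i ^ 2 = (((i - a) • ε) : DualNumber K) • Hy a 0 0 g h i := by
  rw [Hy_sq]
  unfold Hy
  ext r s <;> fin_cases r <;> fin_cases s <;>
    simp [Matrix.mul_apply, Fin.sum_univ_three] <;> try ring

theorem Hz_sq' : Hz d 0 0 g h i ^ 2 = ((-((h + d) • ε)) : DualNumber K) • Hz d 0 0 g h i := by
  rw [Hz_sq]
  unfold Hz
  ext r s <;> fin_cases r <;> fin_cases s <;>
    simp [Matrix.mul_apply, Fin.sum_univ_three] <;> try ring

theorem h3_sufficient (p : ℕ) (hp2 : 2 ≤ p) (hJ : b + f = 0)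
    (hcond : p = 2 → b = 0 ∧ c = 0 ∧ e = 0) :
    (∃ co : Fin 3 → DualNumber K, Hx a b c d e f ^ p =
      co 0 • Hx a b c d e f + co 1 • Hy a b c g h i + co 2 • Hz d e f g h i) ∧
    (∃ co : Fin 3 → DualNumber K, Hy a b c g h i ^ p =
      co 0 • Hx a b c d e f + co 1 • Hy a b c g h i + co 2 • Hz d e f g h i) ∧
    (∃ co : Fin 3 → DualNumber K, Hz d e f g h i ^ p =
      co 0 • Hx a b c d e f + co 1 • Hy a b c g h i + co 2 • Hz d e f g h i) := by
  refine ⟨⟨fun _ => 0, ?_⟩, ?_, ?_⟩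
  · rw [pow_eq_zero_of_two (Hx_sq a b c d e f) hp2]
    simp
  · have hcases : p = 2 ∨ p = 3 ∨ 4 ≤ p := by omega
    rcases hcases with rfl | rfl | h4
    · obtain ⟨rfl, rfl, rfl⟩ := hcond rfl
      refine ⟨![0, (i - a) • ε, 0], ?_⟩
      rw [Hy_sq']
      simp
    · refine ⟨![0, -(c • ε), 0], ?_⟩
      rw [Hy_cube]
      simp
    · refine ⟨fun _ => 0, ?_⟩
      rw [pow_eq_zero_of_four (Hy_four a b c g h i) h4]
      simp
  · have hcases : p = 2 ∨ p = 3 ∨ 4 ≤ p := by omega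
    rcases hcases with rfl | rfl | h4
    · obtain ⟨rfl, rfl, rfl⟩ := hcond rfl
      have hf : f = 0 := by rw [zero_add] at hJ; exact hJ
      subst hf
      refine ⟨![0, 0, -((h + d) • ε)], ?_⟩
      rw [Hz_sq']
      simp
    · refine ⟨![0, 0, e • ε], ?_⟩
      rw [Hz_cube]
      simp
    · refine ⟨fun _ => 0, ?_⟩
      rw [pow_eq_zero_of_four (Hz_four d e f g h i) h4]
      simp

theorem h3_necessary
    (hy : ∃ co : Fin 3 → DualNumber K, Hy a b c g h i ^ 2 =
      co 0 • Hx a b c d e f + co 1 • Hy a b c g h i + co 2 • Hz d e f g h i)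
    (hz : ∃ co : Fin 3 → DualNumber K, Hz d e f g h i ^ 2 =
      co 0 • Hx a b c d e f + co 1 • Hy a b c g h i + co 2 • Hz d e f g h i) :
    b = 0 ∧ c = 0 ∧ e = 0 := by
  obtain ⟨co, hy⟩ := hy
  obtain ⟨co', hz⟩ := hz
  rw [Hy_sq] at hy
  rw [Hz_sq] at hz
  have y02 := congrArg TrivSqZeroExt.fst (congrFun (congrFun hy 0) 2)
  have y01 := congrArg TrivSqZeroExt.fst (congrFun (congrFun hy 0) 1)
  have y00 := congrArg TrivSqZeroExt.snd (congrFun (congrFun hy 0) 0)
  have y12 := congrArg TrivSqZeroExt.snd (congrFun (congrFun hy 1) 2)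
  have z02 := congrArg TrivSqZeroExt.fst (congrFun (congrFun hz 0) 2)
  have z01 := congrArg TrivSqZeroExt.fst (congrFun (congrFun hz 0) 1)
  have z00 := congrArg TrivSqZeroExt.snd (congrFun (congrFun hz 0) 0)
  simp [Hx, Hy, Hz] at y02 y01 y00 y12 z02 z01 z00
  rw [← y02, y01] at y00
  rw [← z02, z01] at z00
  rw [← y02] at y12
  have he : e = 0 := by rw [z00]; ring
  have hc : c = 0 := by
    have : -c = 0 := by rw [y00]; ring
    exact neg_eq_zero.mp this
  have hb : b = 0 := by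
    have : -b = 0 := by rw [y12, he]; ring
    exact neg_eq_zero.mp this
  exact ⟨hb, hc, he⟩

theorem Amat_zero : Amat ![a • ε, b • ε, c • ε] ![d • ε, e • ε, f • ε]
    ![(1 + g • ε : DualNumber K), h • ε, i • ε] 0 = Hx a b c d e f := rfl

theorem Amat_one : Amat ![a • ε, b • ε, c • ε] ![d • ε, e • ε, f • ε]
    ![(1 + g • ε : DualNumber K), h • ε, i • ε] 1 = Hy a b c g h i := rfl

theorem Amat_two : Amat ![a • ε, b • ε, c • ε] ![d • ε, e • ε, f • ε]
    ![(1 + g • ε : DualNumber K), h • ε, i • ε] 2 = Hz d e f g h i := rfl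

theorem h3_main (p : ℕ) [hp : Fact p.Prime] [CharP (DualNumber K) p]
    (L : Type v) [LieRing L] [LieAlgebra (DualNumber K) L]
    (bs : Module.Basis (Fin 3) (DualNumber K) L)
    (hxy : ⁅bs 0, bs 1⁆ = (a • ε : DualNumber K) • bs 0 + (b • ε : DualNumber K) • bs 1 +
      (c • ε : DualNumber K) • bs 2)
    (hxz : ⁅bs 0, bs 2⁆ = (d • ε : DualNumber K) • bs 0 + (e • ε : DualNumber K) • bs 1 +
      (f • ε : DualNumber K) • bs 2)
    (hyz : ⁅bs 1, bs 2⁆ = (1 + g • ε : DualNumber K) • bs 0 + (h • ε : DualNumber K) • bs 1 +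
      (i • ε : DualNumber K) • bs 2) :
    Nonempty (PLie.PMap (DualNumber K) p L) ↔ (p = 2 → b = 0 ∧ c = 0 ∧ e = 0) := by
  have hJm := jacobi_matrix bs ![a • ε, b • ε, c • ε] ![d • ε, e • ε, f • ε]
    ![(1 + g • ε : DualNumber K), h • ε, i • ε] hxy hxz hyz
  rw [nonempty_pmap_iff_three bs ![a • ε, b • ε, c • ε] ![d • ε, e • ε, f • ε]
    ![(1 + g • ε : DualNumber K), h • ε, i • ε] hxy hxz hyz p]
  rw [Amat_zero, Amat_one, Amat_two] at hJm ⊢
  have hJ : b + f = 0 := by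
    have h02 := congrArg TrivSqZeroExt.snd (congrFun (congrFun hJm 0) 2)
    simp [Hx, Hy, Hz, Matrix.mul_apply, Fin.sum_univ_three] at h02
    rw [h02]
    ring
  constructor
  · intro hall hp2
    subst hp2
    have h1 := hall 1
    have h2 := hall 2
    rw [Amat_one] at h1
    rw [Amat_two] at h2
    exact h3_necessary a b c d e f g h i h1 h2
  · intro hcond
    obtain ⟨h0, h1, h2⟩ := h3_sufficient a b c d e f g h i p hp.out.two_le hJ hcond
    intro j
    fin_cases j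
    · exact h0
    · exact h1
    · exact h2

end Groth.Agent.Lib.Helper6.PLieL.H3
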