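import Mathlib
import Groth.Agent.Lib.Helper6.PLieL.Dim3

/-!
# First-order deformations of the algebras `l_t`: restrictability
-/

set_option linter.unusedSectionVars false
set_option linter.unusedVariables false
set_option linter.unusedSimpArgs false
set_option autoImplicit false
set_option linter.style.haveILetI false
set_option linter.unnecessarySeqFocus false
set_option linter.unusedTactic false
set_option linter.unreachableTactic false
set_option maxHeartbeats 1000000

universe u v w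

namespace Groth.Agent.Lib.Helper6.PLieL.L3

open DualNumber

section General

variable {S : Type*} [CommRing S] {m : Type*} [Fintype m] [DecidableEq m]

/-- the complete homogeneous sum `∑_{i<n} x^i y^(n-1-i)`. -/
def hsum (n : ℕ) (x y : S) : S := ∑ i ∈ Finset.range n, x ^ i * y ^ (n - 1 - i)

theorem hsum_zero (x y : S) : hsum 0 x y = 0 := by
  unfold hsum
  simp

theorem hsum_succ (n : ℕ) (x y : S) : hsum (n + 1) x y = x ^ n + y * hsum n x y := by
  unfold hsum
  have := geom_sum₂_succ_eq x y (n := n)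
  simpa using this

theorem hsum_mul_sub (n : ℕ) (x y : S) : hsum n x y * (x - y) = x ^ n - y ^ n :=
  geom_sum₂_mul x y n

theorem hsum_self (n : ℕ) (x : S) : hsum n x x = (n : S) * x ^ (n - 1) := by
  unfold hsum
  rw [Finset.sum_congr rfl (g := fun _ => x ^ (n - 1))]
  · rw [Finset.sum_const, Finset.card_range, nsmul_eq_mul]
  · intro i hi
    have := Finset.mem_range.mp hi
    rw [← pow_add]
    congr 1
    omega

theorem map_hsum {T : Type*} [CommRing T] (φ : S →+* T) (n : ℕ) (x y : S) :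
    φ (hsum n x y) = hsum n (φ x) (φ y) := by
  unfold hsum
  simp [map_sum, map_mul, map_pow]

theorem diag_add_eps_pow (ε' : S) (hε : ε' * ε' = 0) (lam : m → S) (B : Matrix m m S) (n : ℕ) :
    (Matrix.diagonal lam + ε' • B) ^ n =
      Matrix.diagonal (fun r => lam r ^ n) +
        ε' • Matrix.of (fun r s => B r s * hsum n (lam r) (lam s)) := by
  induction n with
  | zero =>
    ext r s
    simp [hsum_zero, Matrix.one_apply, Matrix.diagonal_apply]
  | succ n ih =>
    rw [pow_succ, ih, add_mul, mul_add, mul_add, Matrix.diagonal_mul_diagonal, Matrix.mul_smul,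
      Matrix.smul_mul, Matrix.smul_mul, Matrix.mul_smul, smul_smul, hε, zero_smul, add_zero]
    ext r s
    simp only [Matrix.add_apply, Matrix.smul_apply, Matrix.diagonal_mul, Matrix.mul_diagonal,
      Matrix.of_apply, hsum_succ, smul_eq_mul, Matrix.diagonal_apply, pow_succ]
    by_cases hrs : r = s
    · subst hrs
      simp only [if_true]
      ring
    · simp only [if_neg hrs]
      ring

end General

section Field

variable {K : Type u} [Field K] (p : ℕ) [hp : Fact p.Prime] [CharP K p]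

theorem hsum_eq_one {x y : K} (hx : x ^ p = x) (hy : y ^ p = y) (hxy : x ≠ y) :
    hsum p x y = 1 := by
  have h := hsum_mul_sub p x y
  rw [hx, hy] at h
  have hne : x - y ≠ 0 := sub_ne_zero.mpr hxy
  exact mul_right_cancel₀ hne (by rw [h, one_mul])

theorem hsum_self_char (x : K) : hsum p x x = 0 := by
  rw [hsum_self, CharP.cast_eq_zero, zero_mul]

end Field

section Mats

variable {K : Type u} [Field K]

theorem dual_pow (lam : Fin 3 → K) (B : Matrix (Fin 3) (Fin 3) K) (n : ℕ) :
    (Matrix.diagonal (fun r => algebraMap K (DualNumber K) (lam r)) +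
      (ε : DualNumber K) • B.map (algebraMap K (DualNumber K))) ^ n =
    Matrix.diagonal (fun r => algebraMap K (DualNumber K) (lam r ^ n)) +
      (ε : DualNumber K) •
        (Matrix.of fun r s => B r s * hsum n (lam r) (lam s)).map (algebraMap K (DualNumber K)) := by
  rw [diag_add_eps_pow (ε : DualNumber K) DualNumber.eps_mul_eps]
  congr 1
  · congr 1
    funext r
    rw [map_pow]
  · congr 1
    ext r s
    · simp [map_hsum]
    · simp [map_hsum]

variable (t a b c d e f g h i : K)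

/-- matrix of `ad x`. -/
def Lx : Matrix (Fin 3) (Fin 3) (DualNumber K) :=
  !![0, a • ε, d • ε; 0, 1 + b • ε, e • ε; 0, c • ε, algebraMap K (DualNumber K) t + f • ε]
/-- matrix of `ad y`. -/
def Ly : Matrix (Fin 3) (Fin 3) (DualNumber K) :=
  !![-(a • ε), 0, g • ε; -(1 + b • ε), 0, h • ε; -(c • ε), 0, i • ε]
/-- matrix of `ad z`. -/
def Lz : Matrix (Fin 3) (Fin 3) (DualNumber K) :=
  !![-(d • ε), -(g • ε), 0; -(e • ε), -(h • ε), 0;
    -(algebraMap K (DualNumber K) t + f • ε), -(i • ε), 0]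

theorem Lx_decomp : Lx t a b c d e f =
    Matrix.diagonal (fun r => algebraMap K (DualNumber K) ((![0, 1, t] : Fin 3 → K) r)) +
      (ε : DualNumber K) •
        (!![0, a, d; 0, b, e; 0, c, f] : Matrix (Fin 3) (Fin 3) K).map
          (algebraMap K (DualNumber K)) := by
  unfold Lx
  ext r s <;> fin_cases r <;> fin_cases s <;> simp [TrivSqZeroExt.algebraMap_eq_inl]

section Pow

variable (p : ℕ) [hp : Fact p.Prime] [CharP K p]

theorem Lx_pow (ht : t ^ p = t) (hd : d = h * t) :
    Lx t a b c d e f ^ p =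
      !![0, a • ε, d • ε; 0, 1, (e * hsum p 1 t) • ε;
        0, (c * hsum p t 1) • ε, algebraMap K (DualNumber K) t] := by
  have hp0 : p ≠ 0 := hp.out.ne_zero
  have h01 : hsum p (0 : K) 1 = 1 :=
    hsum_eq_one p (zero_pow hp0) (one_pow p) zero_ne_one
  have h0t : d * hsum p (0 : K) t = d := by
    by_cases ht0 : t = 0
    · rw [hd, ht0, mul_zero, zero_mul]
    · rw [hsum_eq_one p (zero_pow hp0) ht (Ne.symm ht0), mul_one]
  have h11 : hsum p (1 : K) 1 = 0 := hsum_self_char p 1
  have htt : hsum p t t = 0 := hsum_self_char p t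
  rw [Lx_decomp, dual_pow]
  ext r s <;> fin_cases r <;> fin_cases s <;>
    simp [TrivSqZeroExt.algebraMap_eq_inl, h01, h0t, h11, htt, ht, zero_pow hp0]

theorem Ly_sq : Ly a b c g h i ^ 2 = !![0, 0, 0; a • ε, 0, -(g • ε); 0, 0, 0] := by
  unfold Ly
  rw [pow_two]
  ext r s <;> fin_cases r <;> fin_cases s <;>
    simp [Matrix.mul_apply, Fin.sum_univ_three, TrivSqZeroExt.algebraMap_eq_inl] <;> try ring

theorem Ly_cube : Ly a b c g h i ^ 3 = 0 := by
  rw [pow_succ, Ly_sq]
  unfold Ly
  ext r s <;> fin_cases r <;> fin_cases s <;>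
    simp [Matrix.mul_apply, Fin.sum_univ_three, TrivSqZeroExt.algebraMap_eq_inl] <;> try ring

theorem Lz_sq : Lz t d e f g h i ^ 2 =
    !![0, 0, 0; 0, 0, 0; (t * d) • ε, (t * g) • ε, 0] := by
  unfold Lz
  rw [pow_two]
  ext r s <;> fin_cases r <;> fin_cases s <;>
    simp [Matrix.mul_apply, Fin.sum_univ_three, TrivSqZeroExt.algebraMap_eq_inl] <;> try ring

theorem Lz_cube : Lz t d e f g h i ^ 3 = 0 := by
  rw [pow_succ, Lz_sq]
  unfold Lz
  ext r s <;> fin_cases r <;> fin_cases s <;>
    simp [Matrix.mul_apply, Fin.sum_univ_three, TrivSqZeroExt.algebraMap_eq_inl] <;> try ring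

theorem Ly_sq' : Ly a b c 0 h i ^ 2 = (-(a • ε) : DualNumber K) • Ly a b c 0 h i := by
  rw [Ly_sq]
  unfold Ly
  ext r s <;> fin_cases r <;> fin_cases s <;>
    simp [Matrix.mul_apply, Fin.sum_univ_three, TrivSqZeroExt.algebraMap_eq_inl] <;> try ring

theorem Lz_sq' : Lz t d e f 0 h i ^ 2 = (-(d • ε) : DualNumber K) • Lz t d e f 0 h i := by
  rw [Lz_sq]
  unfold Lz
  ext r s <;> fin_cases r <;> fin_cases s <;>
    simp [Matrix.mul_apply, Fin.sum_univ_three, TrivSqZeroExt.algebraMap_eq_inl] <;> try ring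

theorem pow_eq_zero_of_three {n : ℕ} {M : Matrix (Fin 3) (Fin 3) (DualNumber K)} (hM : M ^ 3 = 0)
    (hn : 3 ≤ n) : M ^ n = 0 := by
  obtain ⟨k, rfl⟩ := Nat.exists_eq_add_of_le hn
  rw [pow_add, hM, zero_mul]

theorem Lx_pow' (ht : t ^ p = t) (hd : d = h * t) (hf : b * t = f)
    (hce : t = 1 → c = 0 ∧ e = 0) :
    Lx t a b c d e f ^ p = (1 - b • ε : DualNumber K) • Lx t a b c d e f := by
  rw [Lx_pow t a b c d e f h p ht hd]
  have he : e * hsum p 1 t = e := by
    by_cases ht1 : t = 1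
    · rw [(hce ht1).2, zero_mul]
    · rw [hsum_eq_one p (one_pow p) ht (Ne.symm ht1), mul_one]
  have hc : c * hsum p t 1 = c := by
    by_cases ht1 : t = 1
    · rw [(hce ht1).1, zero_mul]
    · rw [hsum_eq_one p ht (one_pow p) ht1, mul_one]
  rw [he, hc, ← hf]
  unfold Lx
  ext r s <;> fin_cases r <;> fin_cases s <;>
    simp [Matrix.mul_apply, Fin.sum_univ_three, TrivSqZeroExt.algebraMap_eq_inl] <;> try ring

theorem l3_sufficient (ht : t ^ p = t) (hd : d = h * t) (hf : b * t = f)
    (hce : t = 1 → c = 0 ∧ e = 0) (hg : p = 2 → g = 0) :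
    (∃ co : Fin 3 → DualNumber K, Lx t a b c d e f ^ p =
      co 0 • Lx t a b c d e f + co 1 • Ly a b c g h i + co 2 • Lz t d e f g h i) ∧
    (∃ co : Fin 3 → DualNumber K, Ly a b c g h i ^ p =
      co 0 • Lx t a b c d e f + co 1 • Ly a b c g h i + co 2 • Lz t d e f g h i) ∧
    (∃ co : Fin 3 → DualNumber K, Lz t d e f g h i ^ p =
      co 0 • Lx t a b c d e f + co 1 • Ly a b c g h i + co 2 • Lz t d e f g h i) := by
  have hp2 : 2 ≤ p := hp.out.two_le
  refine ⟨⟨![1 - b • ε, 0, 0], ?_⟩, ?_, ?_⟩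
  · rw [Lx_pow' t a b c d e f h p ht hd hf hce]
    simp
  · have hcases : p = 2 ∨ 3 ≤ p := by omega
    rcases hcases with h2 | h3
    · have hg0 := hg h2
      subst hg0
      refine ⟨![0, -(a • ε), 0], ?_⟩
      rw [h2, Ly_sq']
      simp
    · refine ⟨fun _ => 0, ?_⟩
      rw [pow_eq_zero_of_three (Ly_cube a b c g h i) h3]
      simp
  · have hcases : p = 2 ∨ 3 ≤ p := by omega
    rcases hcases with h2 | h3
    · have hg0 := hg h2
      subst hg0
      refine ⟨![0, 0, -(d • ε)], ?_⟩
      rw [h2, Lz_sq']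
      simp
    · refine ⟨fun _ => 0, ?_⟩
      rw [pow_eq_zero_of_three (Lz_cube t d e f g h i) h3]
      simp

theorem l3_necessary_x (ht : t ^ p = t) (hd : d = h * t)
    (hx : ∃ co : Fin 3 → DualNumber K, Lx t a b c d e f ^ p =
      co 0 • Lx t a b c d e f + co 1 • Ly a b c g h i + co 2 • Lz t d e f g h i) :
    b * t = f ∧ (t = 1 → c = 0 ∧ e = 0) := by
  obtain ⟨co, hx⟩ := hx
  rw [Lx_pow t a b c d e f h p ht hd] at hx
  have x10 := congrArg TrivSqZeroExt.fst (congrFun (congrFun hx 1) 0)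
  have x11 := congrArg TrivSqZeroExt.fst (congrFun (congrFun hx 1) 1)
  have x20 := congrArg TrivSqZeroExt.fst (congrFun (congrFun hx 2) 0)
  have x22 := congrArg TrivSqZeroExt.snd (congrFun (congrFun hx 2) 2)
  have x11s := congrArg TrivSqZeroExt.snd (congrFun (congrFun hx 1) 1)
  have x21 := congrArg TrivSqZeroExt.snd (congrFun (congrFun hx 2) 1)
  have x12 := congrArg TrivSqZeroExt.snd (congrFun (congrFun hx 1) 2)
  simp [Lx, Ly, Lz, TrivSqZeroExt.algebraMap_eq_inl] at x10 x11 x20 x22 x11s x21 x12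
  have hγt : TrivSqZeroExt.fst (co 2) * t = 0 := by
    rcases x20 with h0 | h0
    · rw [h0, zero_mul]
    · rw [h0, mul_zero]
  rw [← x11] at x22 x11s x21 x12
  rw [x10] at x22 x12
  refine ⟨by linear_combination (-t) * x11s + x22 + h * hγt, ?_⟩
  intro ht1
  subst ht1
  rw [mul_one] at hγt
  rw [hsum_self_char p 1, hγt] at x21
  rw [hsum_self_char p 1] at x12
  constructor
  · linear_combination (-1 : K) * x21
  · linear_combination (-1 : K) * x12

theorem l3_necessary_y
    (hy : ∃ co : Fin 3 → DualNumber K, Ly a b c g h i ^ 2 =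
      co 0 • Lx t a b c d e f + co 1 • Ly a b c g h i + co 2 • Lz t d e f g h i) :
    g = 0 := by
  obtain ⟨co, hy⟩ := hy
  rw [Ly_sq] at hy
  have y11 := congrArg TrivSqZeroExt.fst (congrFun (congrFun hy 1) 1)
  have y10 := congrArg TrivSqZeroExt.fst (congrFun (congrFun hy 1) 0)
  have y12 := congrArg TrivSqZeroExt.snd (congrFun (congrFun hy 1) 2)
  simp [Lx, Ly, Lz, TrivSqZeroExt.algebraMap_eq_inl] at y11 y10 y12
  rw [← y11, y10] at y12
  have : -g = 0 := by rw [y12]; ring
  exact neg_eq_zero.mp this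

end Pow

theorem Amat_zero : Amat ![a • ε, (1 + b • ε : DualNumber K), c • ε]
    ![d • ε, e • ε, algebraMap K (DualNumber K) t + f • ε]
    ![(g • ε : DualNumber K), h • ε, i • ε] 0 = Lx t a b c d e f := rfl

theorem Amat_one : Amat ![a • ε, (1 + b • ε : DualNumber K), c • ε]
    ![d • ε, e • ε, algebraMap K (DualNumber K) t + f • ε]
    ![(g • ε : DualNumber K), h • ε, i • ε] 1 = Ly a b c g h i := rfl

theorem Amat_two : Amat ![a • ε, (1 + b • ε : DualNumber K), c • ε]
    ![d • ε, e • ε, algebraMap K (DualNumber K) t + f • ε]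
    ![(g • ε : DualNumber K), h • ε, i • ε] 2 = Lz t d e f g h i := rfl

theorem l3_main (p : ℕ) [hp : Fact p.Prime] [CharP K p] [CharP (DualNumber K) p]
    (ht : t ^ p = t)
    (L : Type v) [LieRing L] [LieAlgebra (DualNumber K) L]
    (bs : Module.Basis (Fin 3) (DualNumber K) L)
    (hxy : ⁅bs 0, bs 1⁆ = (a • ε : DualNumber K) • bs 0 + (1 + b • ε : DualNumber K) • bs 1 +
      (c • ε : DualNumber K) • bs 2)
    (hxz : ⁅bs 0, bs 2⁆ = (d • ε : DualNumber K) • bs 0 + (e • ε : DualNumber K) • bs 1 +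
      (algebraMap K (DualNumber K) t + f • ε) • bs 2)
    (hyz : ⁅bs 1, bs 2⁆ = (g • ε : DualNumber K) • bs 0 + (h • ε : DualNumber K) • bs 1 +
      (i • ε : DualNumber K) • bs 2) :
    Nonempty (PLie.PMap (DualNumber K) p L) ↔
      (b * t = f ∧ (t = 1 → c = 0 ∧ e = 0) ∧ (p = 2 → g = 0)) := by
  have hJm := jacobi_matrix bs ![a • ε, (1 + b • ε : DualNumber K), c • ε]
    ![d • ε, e • ε, algebraMap K (DualNumber K) t + f • ε]
    ![(g • ε : DualNumber K), h • ε, i • ε] hxy hxz hyz
  rw [nonempty_pmap_iff_three bs ![a • ε, (1 + b • ε : DualNumber K), c • ε]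
    ![d • ε, e • ε, algebraMap K (DualNumber K) t + f • ε]
    ![(g • ε : DualNumber K), h • ε, i • ε] hxy hxz hyz p]
  rw [Amat_zero, Amat_one, Amat_two] at hJm ⊢
  have hd : d = h * t := by
    have h12 := congrArg TrivSqZeroExt.snd (congrFun (congrFun hJm 1) 2)
    simp [Lx, Ly, Lz, Matrix.mul_apply, Fin.sum_univ_three,
      TrivSqZeroExt.algebraMap_eq_inl] at h12
    linear_combination (-1 : K) * h12
  constructor
  · intro hall
    have h0 := hall 0
    rw [Amat_zero] at h0
    obtain ⟨h1, h2⟩ := l3_necessary_x t a b c d e f g h i p ht hd h0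
    refine ⟨h1, h2, ?_⟩
    intro hp2
    subst hp2
    have h1' := hall 1
    rw [Amat_one] at h1'
    exact l3_necessary_y t a b c d e f g h i h1'
  · rintro ⟨h1, h2, h3⟩
    obtain ⟨r0, r1, r2⟩ := l3_sufficient t a b c d e f g h i p ht hd h1 h2 h3
    intro j
    fin_cases j
    · exact r0
    · exact r1
    · exact r2

end Mats

end Groth.Agent.Lib.Helper6.PLieL.L3
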