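import Mathlib
import Groth.Agent.Lib.Helper6.PLieL.Main

/-!
# Restricted PBW: triangularity of the central elements `ξ_i = b_i^p - y_i`
-/

set_option linter.unusedSectionVars false
set_option linter.unusedVariables false
set_option linter.unusedSimpArgs false
set_option autoImplicit false
set_option linter.style.haveILetI false
set_option maxHeartbeats 400000

universe u v w

namespace Groth.Agent.Lib.Helper6.PLieL

open PBWR
open Multiset (card)

attribute [local instance 100] LieRing.ofAssociativeRing

section Filt

variable {k : Type u} [CommRing k] {L : Type v} [LieRing L] [LieAlgebra k L]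
  {ι : Type w} [LinearOrder ι] (b : Module.Basis ι k L)

/-- strict filtration. -/
noncomputable def Slt (n : ℕ) : Submodule k (Multiset ι →₀ k) :=
  Finsupp.supported k k {t : Multiset ι | card t < n}

theorem S_le_Slt {m n : ℕ} (h : m < n) : (S m : Submodule k (Multiset ι →₀ k)) ≤ Slt n := by
  unfold S Slt
  apply Finsupp.supported_mono
  intro t ht
  exact lt_of_le_of_lt ht h

theorem Slt_le_S {m n : ℕ} (h : m ≤ n + 1) : (Slt m : Submodule k (Multiset ι →₀ k)) ≤ S n := by
  unfold S Slt
  apply Finsupp.supported_mono
  intro t ht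
  have : card t < m := ht
  show card t ≤ n
  omega

theorem Slt_zero : (Slt 0 : Submodule k (Multiset ι →₀ k)) = ⊥ := by
  unfold Slt
  have : {t : Multiset ι | card t < 0} = ∅ := by
    ext t; simp
  rw [this, Finsupp.supported_empty]

theorem Slt_mono {m n : ℕ} (h : m ≤ n) : (Slt m : Submodule k (Multiset ι →₀ k)) ≤ Slt n := by
  unfold Slt
  apply Finsupp.supported_mono
  intro t ht
  exact lt_of_lt_of_le ht h

theorem apply_eq_zero_of_mem_Slt {n : ℕ} {v : Multiset ι →₀ k} (hv : v ∈ Slt n)
    {t : Multiset ι} (ht : n ≤ card t) : v t = 0 := by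
  by_contra hne
  have hmem : t ∈ v.support := Finsupp.mem_support_iff.mpr hne
  have := (Finsupp.mem_supported k v).mp hv hmem
  have h2 : card t < n := this
  omega

theorem ρ_pow_mem (i : ι) (m : ℕ) {n : ℕ} {v : Multiset ι →₀ k} (hv : v ∈ S n) :
    (ρ b i ^ m) v ∈ S (n + m) := by
  induction m with
  | zero => simpa using hv
  | succ m ih =>
    rw [pow_succ', Module.End.mul_apply]
    exact ρ_mem b i ih

theorem ρ_pow_lead (i : ι) (m : ℕ) (s : Multiset ι) :
    (ρ b i ^ (m + 1)) (z s) - z (Multiset.replicate (m + 1) i + s) ∈ S (card s + m) := by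
  induction m with
  | zero =>
    rw [zero_add, pow_one, ρ_z, Multiset.replicate_one, Multiset.singleton_add, add_zero]
    exact act_sub_mem' b s i
  | succ m ih =>
    rw [pow_succ', Module.End.mul_apply]
    set R := Multiset.replicate (m + 1) i + s with hR
    have hcR : card R = card s + m + 1 := by
      rw [hR, Multiset.card_add, Multiset.card_replicate]; omega
    have e1 : (ρ b i ^ (m + 1)) (z s) = z R + ((ρ b i ^ (m + 1)) (z s) - z R) := by abel
    have e2 : Multiset.replicate (m + 1 + 1) i + s = i ::ₘ R := by
      rw [hR, Multiset.replicate_succ, Multiset.cons_add]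
    rw [e1, map_add, ρ_z, e2]
    have h1 := act_sub_mem' b R i
    rw [hcR] at h1
    have h2 := ρ_mem b i ih
    have e3 : act b i R + ρ b i ((ρ b i ^ (m + 1)) (z s) - z R) - z (i ::ₘ R) =
        (act b i R - z (i ::ₘ R)) + ρ b i ((ρ b i ^ (m + 1)) (z s) - z R) := by abel
    rw [e3]
    exact (S (card s + (m + 1))).add_mem h1 h2

end Filt

section Xi

variable {k : Type u} [CommRing k] {L : Type v} [LieRing L] [LieAlgebra k L]
  {ι : Type w} [LinearOrder ι] (b : Module.Basis ι k L) (p : ℕ) [hp : Fact p.Prime] (y : ι → L)

theorem F_ξ (i : ι) : F b (ξ p b y i) = (ρ b i) ^ p - ρL b (y i) := by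
  unfold ξ
  rw [map_sub, map_pow, F_ι, F_ι, ρL_basis]

theorem Ξ_mem (i : ι) {n : ℕ} {v : Multiset ι →₀ k} (hv : v ∈ S n) :
    F b (ξ p b y i) v ∈ S (n + p) := by
  rw [F_ξ, LinearMap.sub_apply]
  have hp2 := hp.out.two_le
  exact Submodule.sub_mem _ (ρ_pow_mem b i p hv) (S_mono (by omega) (ρL_mem b (y i) hv))

theorem Ξ_lead (i : ι) (s : Multiset ι) :
    F b (ξ p b y i) (z s) - z (Multiset.replicate p i + s) ∈ Slt (card s + p) := by
  have hp2 := hp.out.two_le
  obtain ⟨m, rfl⟩ : ∃ m, p = m + 1 := ⟨p - 1, by omega⟩
  rw [F_ξ, LinearMap.sub_apply]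
  have e : (ρ b i ^ (m + 1)) (z s) - (ρL b (y i)) (z s) - z (Multiset.replicate (m + 1) i + s) =
      ((ρ b i ^ (m + 1)) (z s) - z (Multiset.replicate (m + 1) i + s)) - (ρL b (y i)) (z s) := by
    abel
  rw [e]
  exact Submodule.sub_mem _ (S_le_Slt (by omega) (ρ_pow_lead b i m s))
    (S_le_Slt (by omega) (ρL_mem b (y i) (z_mem_S le_rfl)))

theorem Ξ_Slt (i : ι) {n : ℕ} {v : Multiset ι →₀ k} (hv : v ∈ Slt n) :
    F b (ξ p b y i) v ∈ Slt (n + p) := by
  cases n with
  | zero =>
    rw [Slt_zero, Submodule.mem_bot] at hv
    rw [hv, map_zero]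
    exact Submodule.zero_mem _
  | succ n =>
    have h1 : v ∈ S n := Slt_le_S le_rfl hv
    exact S_le_Slt (by omega) (Ξ_mem b p y i h1)

variable [CharP k p] (hy : ∀ i : ι, LieAlgebra.ad k L (b i) ^ p = LieAlgebra.ad k L (y i))

/-- `ξ_i` as an element of the centre. -/
noncomputable def ξz (i : ι) : Subalgebra.center k (UniversalEnvelopingAlgebra k L) :=
  ⟨ξ p b y i, by
    rw [Subalgebra.mem_center_iff]
    intro u
    exact ((ξ_central p b y hy i u).eq).symm⟩

/-- the central monomials `ξ^c`. -/
noncomputable def ξc (c : Multiset ι) : UniversalEnvelopingAlgebra k L :=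
  (((c.map (ξz b p y hy)).prod : Subalgebra.center k (UniversalEnvelopingAlgebra k L)) :
    UniversalEnvelopingAlgebra k L)

theorem ξc_zero : ξc b p y hy 0 = 1 := by
  unfold ξc
  rw [Multiset.map_zero, Multiset.prod_zero]
  rfl

theorem ξc_cons (j : ι) (c : Multiset ι) : ξc b p y hy (j ::ₘ c) = ξ p b y j * ξc b p y hy c := by
  unfold ξc
  rw [Multiset.map_cons, Multiset.prod_cons]
  rfl

theorem ξc_add (c c' : Multiset ι) :
    ξc b p y hy (c + c') = ξc b p y hy c * ξc b p y hy c' := by
  unfold ξc
  rw [Multiset.map_add, Multiset.prod_add]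
  rfl

theorem ξc_comm (c : Multiset ι) (u : UniversalEnvelopingAlgebra k L) :
    ξc b p y hy c * u = u * ξc b p y hy c := by
  unfold ξc
  have := ((c.map (ξz b p y hy)).prod).2
  rw [Subalgebra.mem_center_iff] at this
  exact (this u).symm

theorem T_lead (c r : Multiset ι) :
    F b (ξc b p y hy c) (z r) - z (p • c + r) ∈ Slt (p * card c + card r) := by
  induction c using Multiset.induction_on with
  | empty =>
    rw [ξc_zero, map_one, Module.End.one_apply, smul_zero, zero_add, sub_self]
    exact Submodule.zero_mem _
  | cons j c ih =>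
    rw [ξc_cons, map_mul, Module.End.mul_apply]
    set a' := p • c + r with ha'
    have hca : card a' = p * card c + card r := by
      rw [ha', Multiset.card_add, Multiset.card_nsmul]
    have e1 : F b (ξc b p y hy c) (z r) = z a' + (F b (ξc b p y hy c) (z r) - z a') := by abel
    have e2 : p • (j ::ₘ c) + r = Multiset.replicate p j + a' := by
      rw [ha', ← Multiset.singleton_add, smul_add, Multiset.nsmul_singleton, add_assoc]
    have e3 : p * card (j ::ₘ c) + card r = (p * card c + card r) + p := by
      rw [Multiset.card_cons]; ring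
    rw [e1, map_add, e2, e3]
    have h1 := Ξ_lead b p y j a'
    rw [hca] at h1
    have h2 := Ξ_Slt b p y j ih
    have e4 : F b (ξ p b y j) (z a') + F b (ξ p b y j) (F b (ξc b p y hy c) (z r) - z a') -
        z (Multiset.replicate p j + a') =
        (F b (ξ p b y j) (z a') - z (Multiset.replicate p j + a')) +
          F b (ξ p b y j) (F b (ξc b p y hy c) (z r) - z a') := by abel
    rw [e4]
    exact (Slt _).add_mem h1 h2

end Xi

section Tri

variable {k : Type u} [CommRing k] {ι : Type w} [LinearOrder ι] {A : Type*} [DecidableEq A]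
  (T : A → (Multiset ι →₀ k))
  (lead : A → Multiset ι) (hT : ∀ a, T a - z (lead a) ∈ Slt (card (lead a)))

include hT in
theorem T_apply_lead (hinj : Function.Injective lead) (a a0 : A)
    (h : card (lead a) ≤ card (lead a0)) :
    T a (lead a0) = if a = a0 then 1 else 0 := by
  have e : T a = z (lead a) + (T a - z (lead a)) := by abel
  rw [e, Finsupp.add_apply, apply_eq_zero_of_mem_Slt (hT a) h, add_zero]
  unfold z
  rw [Finsupp.single_apply]
  by_cases haa : a = a0
  · simp [haa]
  · simp [haa, hinj.eq_iff]

include hT in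
theorem tri_linearIndependent (hinj : Function.Injective lead) : LinearIndependent k T := by
  rw [linearIndependent_iff]
  suffices H : ∀ n, ∀ l : A →₀ k, (∀ a ∈ l.support, card (lead a) < n) →
      Finsupp.linearCombination k T l = 0 → l = 0 by
    intro l hl
    apply H (l.support.sup (fun a => card (lead a)) + 1) l _ hl
    intro a ha
    exact Nat.lt_succ_of_le (Finset.le_sup (f := fun a => card (lead a)) ha)
  intro n
  induction n with
  | zero =>
    intro l hsup _
    ext a
    by_contra h
    exact absurd (hsup a (Finsupp.mem_support_iff.mpr h)) (Nat.not_lt_zero _)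
  | succ n ih =>
    intro l hsup hl
    apply ih l _ hl
    intro a ha
    have h1 := hsup a ha
    by_contra hnot
    have hcard : card (lead a) = n := by omega
    have hev := DFunLike.congr_fun hl (lead a)
    rw [Finsupp.linearCombination_apply, Finsupp.sum, Finsupp.finsetSum_apply] at hev
    rw [Finset.sum_eq_single a] at hev
    · rw [Finsupp.smul_apply, T_apply_lead T lead hT hinj a a le_rfl, if_pos rfl, smul_eq_mul,
        mul_one] at hev
      exact (Finsupp.mem_support_iff.mp ha) hev
    · intro a' ha' hne
      rw [Finsupp.smul_apply, T_apply_lead T lead hT hinj a' a (by have := hsup a' ha'; omega),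
        if_neg hne, smul_zero]
    · intro h
      exact absurd ha h

include hT in
theorem tri_span (hsurj : Function.Surjective lead) : Submodule.span k (Set.range T) = ⊤ := by
  have H : ∀ n, (S n : Submodule k (Multiset ι →₀ k)) ≤ Submodule.span k (Set.range T) := by
    intro n
    induction n using Nat.strong_induction_on with
    | _ n ih =>
      unfold S
      rw [Finsupp.supported_eq_span_single, Submodule.span_le]
      rintro _ ⟨s, hs, rfl⟩
      obtain ⟨a, rfl⟩ := hsurj s
      have e : Finsupp.single (lead a) (1 : k) = T a - (T a - z (lead a)) := by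
        unfold z; abel
      show Finsupp.single (lead a) (1 : k) ∈ _
      rw [e]
      apply Submodule.sub_mem _ (Submodule.subset_span (Set.mem_range_self a))
      have hs' : card (lead a) ≤ n := hs
      cases hc : card (lead a) with
      | zero =>
        have := hT a
        rw [hc, Slt_zero, Submodule.mem_bot] at this
        rw [this]
        exact zero_mem _
      | succ m =>
        have := hT a
        rw [hc] at this
        exact ih m (by omega) (Slt_le_S le_rfl this)
  rw [eq_top_iff]
  intro v _
  have hv : v ∈ (S (v.support.sup card) : Submodule k (Multiset ι →₀ k)) := by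
    unfold S
    rw [Finsupp.mem_supported]
    intro t ht
    exact Finset.le_sup (f := card) ht
  exact H _ hv

end Tri

section Index

variable {ι : Type w} [DecidableEq ι] (p : ℕ)

/-- index set of the restricted PBW basis. -/
abbrev RIdx (ι : Type w) [DecidableEq ι] (p : ℕ) : Type w :=
  Multiset ι × {r : Multiset ι // ∀ i, r.count i < p}

/-- leading exponent. -/
def rlead (x : RIdx ι p) : Multiset ι := p • x.1 + x.2.1

theorem count_rlead (x : RIdx ι p) (i : ι) :
    (rlead p x).count i = p * x.1.count i + x.2.1.count i := by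
  unfold rlead
  rw [Multiset.count_add, Multiset.count_nsmul]

theorem card_rlead (x : RIdx ι p) : card (rlead p x) = p * card x.1 + card x.2.1 := by
  unfold rlead
  rw [Multiset.card_add, Multiset.card_nsmul]

theorem rlead_injective (hp : 0 < p) : Function.Injective (rlead (ι := ι) p) := by
  rintro ⟨c, r, hr⟩ ⟨c', r', hr'⟩ h
  have hcount : ∀ i, p * c.count i + r.count i = p * c'.count i + r'.count i := by
    intro i
    have := congrArg (Multiset.count i) h
    rwa [count_rlead, count_rlead] at this
  have h1 : c = c' := by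
    ext i
    have := congrArg (fun n => n / p) (hcount i)
    beta_reduce at this
    rwa [Nat.mul_add_div hp, Nat.mul_add_div hp, Nat.div_eq_of_lt (hr i),
      Nat.div_eq_of_lt (hr' i), add_zero, add_zero] at this
  have h2 : r = r' := by
    ext i
    have := congrArg (fun n => n % p) (hcount i)
    beta_reduce at this
    rwa [Nat.mul_add_mod, Nat.mul_add_mod, Nat.mod_eq_of_lt (hr i),
      Nat.mod_eq_of_lt (hr' i)] at this
  subst h1
  subst h2
  rfl

theorem rlead_surjective (hp : 0 < p) : Function.Surjective (rlead (ι := ι) p) := by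
  intro a
  refine ⟨⟨Finsupp.toMultiset (a.toFinsupp.mapRange (· / p) (Nat.zero_div p)),
    ⟨Finsupp.toMultiset (a.toFinsupp.mapRange (· % p) (Nat.zero_mod p)), ?_⟩⟩, ?_⟩
  · intro i
    rw [Finsupp.count_toMultiset, Finsupp.mapRange_apply]
    exact Nat.mod_lt _ hp
  · ext i
    rw [count_rlead]
    simp only [Finsupp.count_toMultiset, Finsupp.mapRange_apply, Multiset.toFinsupp_apply]
    exact Nat.div_add_mod _ _

end Index

end Groth.Agent.Lib.Helper6.PLieL
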