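import Mathlib
import Groth.Agent.Lib.Helper6.PLieL.RestrTri

/-!
# The restricted enveloping algebra as a finite faithful module
-/

set_option linter.unusedSectionVars false
set_option linter.unusedVariables false
set_option linter.unusedSimpArgs false
set_option autoImplicit false
set_option linter.style.haveILetI false
set_option maxHeartbeats 400000

universe u v w

namespace Groth.Agent.Lib.Helper6.PLieL

open PBWR
open Multiset (card)

attribute [local instance 100] LieRing.ofAssociativeRing

section RU

variable {k : Type u} [CommRing k] {L : Type v} [LieRing L] [LieAlgebra k L]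
  {ι : Type w} [LinearOrder ι] (b : Module.Basis ι k L) (p : ℕ) [hp : Fact p.Prime] [CharP k p]
  (y : ι → L) (hy : ∀ i : ι, LieAlgebra.ad k L (b i) ^ p = LieAlgebra.ad k L (y i))

/-- the restricted PBW family `ξ^c b^r`. -/
noncomputable def uB (x : RIdx ι p) : UniversalEnvelopingAlgebra k L :=
  ξc b p y hy x.1 * M b x.2.1

theorem ev_uB (x : RIdx ι p) : ev b (uB b p y hy x) = F b (ξc b p y hy x.1) (z x.2.1) := by
  rw [ev_apply, uB, map_mul, Module.End.mul_apply, F_M]

theorem uB_tri (x : RIdx ι p) :
    ev b (uB b p y hy x) - z (rlead p x) ∈ Slt (card (rlead p x)) := by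
  rw [ev_uB, card_rlead]
  exact T_lead b p y hy x.1 x.2.1

theorem uB_linearIndependent : LinearIndependent k (uB b p y hy) := by
  classical
  have h := tri_linearIndependent (k := k) (fun x => ev b (uB b p y hy x)) (rlead p)
    (uB_tri b p y hy) (rlead_injective p hp.out.pos)
  exact LinearIndependent.of_comp (ev b) h

theorem uB_span : Submodule.span k (Set.range (uB b p y hy)) = ⊤ := by
  classical
  have h := tri_span (k := k) (fun x => ev b (uB b p y hy x)) (rlead p)
    (uB_tri b p y hy) (rlead_surjective p hp.out.pos)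
  rw [eq_top_iff]
  intro u _
  have h1 : ev b u ∈ Submodule.span k (Set.range (fun x => ev b (uB b p y hy x))) := by
    rw [h]; trivial
  have h2 := Submodule.apply_mem_span_image_of_mem_span (G b) h1
  rw [G_ev] at h2
  have h3 : (G b) '' Set.range (fun x => ev b (uB b p y hy x)) = Set.range (uB b p y hy) := by
    ext w
    constructor
    · rintro ⟨_, ⟨x, rfl⟩, rfl⟩
      exact ⟨x, (G_ev b _).symm⟩
    · rintro ⟨x, rfl⟩
      exact ⟨_, ⟨x, rfl⟩, G_ev b _⟩
  rw [h3] at h2
  exact h2

/-- the (left, in fact two-sided) ideal generated by the `ξ_i`. -/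
noncomputable def Jid : Ideal (UniversalEnvelopingAlgebra k L) :=
  Ideal.span (Set.range (ξ p b y))

theorem uB_mem_J (x : RIdx ι p) (hx : x.1 ≠ 0) : uB b p y hy x ∈ Jid b p y := by
  obtain ⟨j, hj⟩ := Multiset.exists_mem_of_ne_zero hx
  obtain ⟨c', hc⟩ := Multiset.exists_cons_of_mem hj
  rw [uB, hc, ξc_cons, mul_assoc, (ξ_central p b y hy j _).eq]
  exact Ideal.mul_mem_left _ _ (Ideal.subset_span ⟨j, rfl⟩)

/-- the `k`-span of the `ξ^c b^r` with `c ≠ 0`. -/
noncomputable def Wsp : Submodule k (UniversalEnvelopingAlgebra k L) :=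
  Submodule.span k (uB b p y hy '' {x | x.1 ≠ 0})

/-- the `k`-span of the restricted monomials. -/
noncomputable def W0sp : Submodule k (UniversalEnvelopingAlgebra k L) :=
  Submodule.span k (uB b p y hy '' {x | x.1 = 0})

theorem ξc_mul_mem_W (c : Multiset ι) (hc : c ≠ 0) (v : UniversalEnvelopingAlgebra k L) :
    ξc b p y hy c * v ∈ Wsp b p y hy := by
  have hv : v ∈ Submodule.span k (Set.range (uB b p y hy)) := by
    rw [uB_span]; trivial
  induction hv using Submodule.span_induction with
  | mem v hv =>
    obtain ⟨x, rfl⟩ := hv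
    rw [uB, ← mul_assoc, ← ξc_add]
    refine Submodule.subset_span ⟨⟨c + x.1, x.2⟩, ?_, rfl⟩
    show c + x.1 ≠ 0
    intro h
    exact hc (by
      have := congrArg card h
      rw [Multiset.card_add, Multiset.card_zero] at this
      exact Multiset.card_eq_zero.mp (by omega))
  | zero => rw [mul_zero]; exact Submodule.zero_mem _
  | add v w _ _ hv hw => rw [mul_add]; exact Submodule.add_mem _ hv hw
  | smul a v _ hv => rw [mul_smul_comm]; exact Submodule.smul_mem _ _ hv

theorem mul_mem_W (a : UniversalEnvelopingAlgebra k L) {x : UniversalEnvelopingAlgebra k L}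
    (hx : x ∈ Wsp b p y hy) : a * x ∈ Wsp b p y hy := by
  unfold Wsp at hx
  induction hx using Submodule.span_induction with
  | mem x hx =>
    obtain ⟨x, hx, rfl⟩ := hx
    rw [uB, ← mul_assoc, ← ξc_comm, mul_assoc]
    exact ξc_mul_mem_W b p y hy x.1 hx _
  | zero => rw [mul_zero]; exact Submodule.zero_mem _
  | add v w _ _ hv hw => rw [mul_add]; exact Submodule.add_mem _ hv hw
  | smul c v _ hv => rw [mul_smul_comm]; exact Submodule.smul_mem _ _ hv

theorem J_le_W {u : UniversalEnvelopingAlgebra k L} (hu : u ∈ Jid b p y) :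
    u ∈ Wsp b p y hy := by
  unfold Jid Ideal.span at hu
  induction hu using Submodule.span_induction with
  | mem u hu =>
    obtain ⟨i, rfl⟩ := hu
    have := ξc_mul_mem_W b p y hy {i} (Multiset.singleton_ne_zero i) 1
    rw [mul_one, ← Multiset.cons_zero, ξc_cons, ξc_zero, mul_one] at this
    exact this
  | zero => exact Submodule.zero_mem _
  | add v w _ _ hv hw => exact Submodule.add_mem _ hv hw
  | smul a v _ hv => exact mul_mem_W b p y hy a hv

theorem ι_mem_W0 (x : L) : UniversalEnvelopingAlgebra.ι k x ∈ W0sp b p y hy := by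
  have hp2 := hp.out.two_le
  have hb : ∀ i, UniversalEnvelopingAlgebra.ι k (b i) ∈ W0sp b p y hy := by
    intro i
    have hr : ∀ j, ({i} : Multiset ι).count j < p := by
      intro j
      have := Multiset.count_le_card j ({i} : Multiset ι)
      rw [Multiset.card_singleton] at this
      omega
    refine Submodule.subset_span ⟨⟨0, ⟨{i}, hr⟩⟩, rfl, ?_⟩
    rw [uB, ξc_zero, one_mul]
    show M b (i ::ₘ 0) = _
    rw [M_cons b i 0 (by simp), M_zero, mul_one]
    rfl
  rw [← b.linearCombination_repr x, Finsupp.linearCombination_apply, Finsupp.sum, map_sum]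
  apply Submodule.sum_mem
  intro i _
  rw [map_smul]
  exact Submodule.smul_mem _ _ (hb i)

include hy in
theorem eq_zero_of_ι_mem_J (x : L) (hx : UniversalEnvelopingAlgebra.ι k x ∈ Jid b p y) :
    x = 0 := by
  have h1 := J_le_W b p y hy hx
  have h0 := ι_mem_W0 b p y hy x
  have hdisj : Disjoint (W0sp b p y hy) (Wsp b p y hy) := by
    unfold W0sp Wsp
    apply (uB_linearIndependent b p y hy).disjoint_span_image
    rw [Set.disjoint_left]
    intro a ha hb
    exact hb ha
  have hz : UniversalEnvelopingAlgebra.ι k x = 0 := by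
    have := Submodule.disjoint_def.mp hdisj _ h0 h1
    exact this
  apply ι_injective b
  rw [hz, map_zero]

end RU

end Groth.Agent.Lib.Helper6.PLieL
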