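import Mathlib
import Groth.Agent.Lib.Helper6.PLieL.RestrU

/-!
# Restricted Ado: a finite-dimensional restricted Lie algebra embeds in matrices
-/

set_option linter.unusedSectionVars false
set_option linter.unusedVariables false
set_option linter.unusedSimpArgs false
set_option autoImplicit false
set_option linter.style.haveILetI false
set_option maxHeartbeats 400000

universe u v w

namespace Groth.Agent.Lib.Helper6.PLieL

open PBWR
open Multiset (card)

attribute [local instance 100] LieRing.ofAssociativeRing

section Fin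

variable {k : Type u} [CommRing k] {L : Type v} [LieRing L] [LieAlgebra k L]
  {ι : Type w} [LinearOrder ι] (b : Module.Basis ι k L) (p : ℕ) [hp : Fact p.Prime] [CharP k p]
  (y : ι → L) (hy : ∀ i : ι, LieAlgebra.ad k L (b i) ^ p = LieAlgebra.ad k L (y i))

theorem finite_restricted [Finite ι] : Finite {r : Multiset ι // ∀ i, r.count i < p} := by
  apply Finite.of_injective (fun r => fun i => (⟨r.1.count i, r.2 i⟩ : Fin p))
  intro r r' h
  apply Subtype.ext
  ext i
  exact congrArg Fin.val (congrFun h i)

include hy in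
theorem quot_finite [Finite ι] :
    Module.Finite k (UniversalEnvelopingAlgebra k L ⧸ Jid b p y) := by
  haveI := finite_restricted (ι := ι) p
  have hspan : Submodule.span k (Set.range (fun r : {r : Multiset ι // ∀ i, r.count i < p} =>
      (Submodule.Quotient.mk (M b r.1) : UniversalEnvelopingAlgebra k L ⧸ Jid b p y))) = ⊤ := by
    rw [eq_top_iff]
    rintro n -
    obtain ⟨u, rfl⟩ := Submodule.Quotient.mk_surjective _ n
    have hu : u ∈ Submodule.span k (Set.range (uB b p y hy)) := by
      rw [uB_span]; trivial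
    induction hu using Submodule.span_induction with
    | mem u hu =>
      obtain ⟨x, rfl⟩ := hu
      by_cases hx : x.1 = 0
      · apply Submodule.subset_span
        refine ⟨x.2, ?_⟩
        rw [uB, hx, ξc_zero, one_mul]
      · have := uB_mem_J b p y hy x hx
        rw [(Submodule.Quotient.mk_eq_zero _).mpr this]
        exact zero_mem _
    | zero => rw [Submodule.Quotient.mk_zero]; exact zero_mem _
    | add v w _ _ hv hw => rw [Submodule.Quotient.mk_add]; exact add_mem hv hw
    | smul c v _ hv => rw [Submodule.Quotient.mk_smul]; exact Submodule.smul_mem _ _ hv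
  rw [Module.finite_def, ← hspan]
  exact Submodule.fg_span (Set.finite_range _)

theorem fC_mem_J (x : L) : fC p b y x ∈ Jid b p y := by
  unfold fC Finsupp.sum
  apply Submodule.sum_mem
  intro i _
  show ((b.repr x) i) ^ p • ξ p b y i ∈ Jid b p y
  rw [Algebra.smul_def]
  exact Ideal.mul_mem_left _ _ (Ideal.subset_span ⟨i, rfl⟩)

include hy in
theorem fC_smul_quot (x : L) (n : UniversalEnvelopingAlgebra k L ⧸ Jid b p y) :
    fC p b y x • n = 0 := by
  obtain ⟨u, rfl⟩ := Submodule.Quotient.mk_surjective _ n
  rw [← Submodule.Quotient.mk_smul, smul_eq_mul, (fC_central p b y hy x u).eq,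
    Submodule.Quotient.mk_eq_zero]
  exact Ideal.mul_mem_left _ _ (fC_mem_J b p y x)

end Fin

section Rep

variable {k : Type u} [CommRing k] {L : Type v} [LieRing L] [LieAlgebra k L]
  {ι : Type w} [LinearOrder ι] (b : Module.Basis ι k L) (p : ℕ) [hp : Fact p.Prime] [CharP k p]
  (y : ι → L) (hy : ∀ i : ι, LieAlgebra.ad k L (b i) ^ p = LieAlgebra.ad k L (y i))

/-- the action of `U(L)` on the restricted quotient. -/
noncomputable def Aact : UniversalEnvelopingAlgebra k L →ₐ[k]
    Module.End k (UniversalEnvelopingAlgebra k L ⧸ Jid b p y) :=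
  Algebra.lsmul k k (UniversalEnvelopingAlgebra k L ⧸ Jid b p y)

theorem Aact_apply (u : UniversalEnvelopingAlgebra k L)
    (n : UniversalEnvelopingAlgebra k L ⧸ Jid b p y) : Aact b p y u n = u • n := rfl

/-- the representation of `L` on the restricted quotient. -/
noncomputable def e0 : L →ₗ[k] Module.End k (UniversalEnvelopingAlgebra k L ⧸ Jid b p y) :=
  (Aact b p y).toLinearMap ∘ₗ ((UniversalEnvelopingAlgebra.ι k : L →ₗ⁅k⁆ _) : L →ₗ[k] _)

theorem e0_apply (x : L) : e0 b p y x = Aact b p y (UniversalEnvelopingAlgebra.ι k x) := rfl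

include hy in
theorem e0_injective : Function.Injective (e0 b p y) := by
  rw [injective_iff_map_eq_zero]
  intro x hx
  have h2 : (e0 b p y x) (Submodule.Quotient.mk 1) = 0 := by rw [hx]; rfl
  rw [e0_apply, Aact_apply, ← Submodule.Quotient.mk_smul, smul_eq_mul, mul_one,
    Submodule.Quotient.mk_eq_zero] at h2
  exact eq_zero_of_ι_mem_J b p y hy x h2

theorem e0_lie (x x' : L) :
    e0 b p y ⁅x, x'⁆ = e0 b p y x * e0 b p y x' - e0 b p y x' * e0 b p y x := by
  rw [e0_apply, e0_apply, e0_apply, LieHom.map_lie, LieRing.of_associative_ring_bracket, map_sub,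
    map_mul, map_mul]

include hy in
theorem e0_phi (x : L) : e0 b p y (phi p b y x) = e0 b p y x ^ p := by
  have hz : Aact b p y (fC p b y x) = 0 := by
    apply LinearMap.ext
    intro n
    exact fC_smul_quot b p y hy x n
  have h1 : Aact b p y (UniversalEnvelopingAlgebra.ι k (phi p b y x)) =
      Aact b p y ((UniversalEnvelopingAlgebra.ι k x) ^ p - fC p b y x) :=
    congrArg (Aact b p y) (ι_phi p b y x)
  have h2 : Aact b p y ((UniversalEnvelopingAlgebra.ι k x) ^ p - fC p b y x) =
      Aact b p y ((UniversalEnvelopingAlgebra.ι k x) ^ p) - Aact b p y (fC p b y x) :=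
    map_sub (Aact b p y) _ _
  have h3 : Aact b p y ((UniversalEnvelopingAlgebra.ι k x) ^ p) =
      (Aact b p y (UniversalEnvelopingAlgebra.ι k x)) ^ p :=
    map_pow (Aact b p y) _ p
  rw [e0_apply, e0_apply, h1, h2, h3, hz, sub_zero]

end Rep

section Ado

variable (k : Type u) [Field k] (p : ℕ) [hp : Fact p.Prime] [CharP k p]
  (L : Type v) [LieRing L] [LieAlgebra k L]

theorem isPSub_of_rep (φ : PLie.PMap k p L) {N : Type*} [AddCommGroup N] [Module k N]
    [Module.Finite k N] (f : L →ₗ[k] Module.End k N) (h1 : Function.Injective f)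
    (h2 : ∀ x x', f ⁅x, x'⁆ = f x * f x' - f x' * f x) (h3 : ∀ x, f (φ x) = f x ^ p) :
    ∃ (n : ℕ) (e : L →ₗ[k] Matrix (Fin n) (Fin n) k), PLie.IsPSubOfAssoc φ e := by
  classical
  refine ⟨Module.finrank k N,
    (LinearMap.toMatrix (Module.finBasis k N) (Module.finBasis k N)).toLinearMap ∘ₗ f, ?_, ?_, ?_⟩
  · intro x x' hxx
    apply h1
    exact (LinearMap.toMatrix (Module.finBasis k N) (Module.finBasis k N)).injective hxx
  · intro x x'
    simp only [LinearMap.coe_comp, LinearEquiv.coe_coe, Function.comp_apply]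
    rw [h2, map_sub, LinearMap.toMatrix_mul, LinearMap.toMatrix_mul]
  · intro x
    simp only [LinearMap.coe_comp, LinearEquiv.coe_coe, Function.comp_apply]
    rw [h3, LinearMap.toMatrix_pow]

theorem restricted_ado [Module.Finite k L] (φ : PLie.PMap k p L) :
    ∃ (n : ℕ) (e : L →ₗ[k] Matrix (Fin n) (Fin n) k), PLie.IsPSubOfAssoc φ e := by
  have hy : ∀ i, LieAlgebra.ad k L (Module.finBasis k L i) ^ p =
      LieAlgebra.ad k L ((fun i => φ (Module.finBasis k L i)) i) :=
    fun i => (φ.ad_map (Module.finBasis k L i)).symm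
  have hφ : φ = pmap p (Module.finBasis k L) (fun i => φ (Module.finBasis k L i)) hy := by
    apply pmap_ext_basis p (Module.finBasis k L)
    intro i
    exact (phi_basis p (Module.finBasis k L) (fun i => φ (Module.finBasis k L i)) i).symm
  haveI : Module.Finite k (UniversalEnvelopingAlgebra k L ⧸
      Jid (Module.finBasis k L) p (fun i => φ (Module.finBasis k L i))) :=
    quot_finite (Module.finBasis k L) p _ hy
  apply isPSub_of_rep k p L φ (e0 (Module.finBasis k L) p (fun i => φ (Module.finBasis k L i)))
    (e0_injective _ p _ hy) (e0_lie _ p _)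
  intro x
  have hx : φ x = phi p (Module.finBasis k L) (fun i => φ (Module.finBasis k L i)) x :=
    congrArg (fun ψ : PLie.PMap k p L => ψ.toFun x) hφ
  rw [hx]
  exact e0_phi (Module.finBasis k L) p _ hy x

end Ado

end Groth.Agent.Lib.Helper6.PLieL
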