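import Mathlib
import Groth.Agent.Lib.Helper6.PLieL.Main

/-!
# The Hopf algebra structure on the universal enveloping algebra
-/

set_option linter.unusedSectionVars false
set_option linter.unusedVariables false
set_option linter.unusedSimpArgs false
set_option autoImplicit false
set_option linter.style.haveILetI false
set_option maxHeartbeats 400000

universe u v w

namespace Groth.Agent.Lib.Helper6.PLieL.UH

open TensorProduct

attribute [local instance 100] LieRing.ofAssociativeRing

variable (k : Type u) [CommRing k] (L : Type v) [LieRing L] [LieAlgebra k L]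

local notation "U" => UniversalEnvelopingAlgebra k L
local notation "ιU" => UniversalEnvelopingAlgebra.ι k (L := L)

variable {k L} in
theorem alg_ext {A : Type*} [Ring A] [Algebra k A] (g₁ g₂ : U →ₐ[k] A)
    (h : ∀ x : L, g₁ (ιU x) = g₂ (ιU x)) : g₁ = g₂ := by
  apply UniversalEnvelopingAlgebra.hom_ext
  ext x
  exact h x

/-- the Lie homomorphism `x ↦ x ⊗ 1 + 1 ⊗ x`. -/
noncomputable def δLie : L →ₗ⁅k⁆ (U ⊗[k] U) where
  toFun x := ιU x ⊗ₜ[k] (1 : U) + (1 : U) ⊗ₜ[k] ιU x
  map_add' x y := by
    rw [map_add, add_tmul, tmul_add]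
    abel
  map_smul' c x := by
    rw [map_smul, RingHom.id_apply, smul_add, smul_tmul', tmul_smul]
  map_lie' := by
    intro x y
    rw [LieRing.of_associative_ring_bracket]
    simp only [mul_add, add_mul, Algebra.TensorProduct.tmul_mul_tmul, one_mul, mul_one,
      LieHom.map_lie, LieRing.of_associative_ring_bracket, sub_tmul, tmul_sub]
    abel

/-- comultiplication of `U(L)`. -/
noncomputable def comulU : U →ₐ[k] U ⊗[k] U := UniversalEnvelopingAlgebra.lift k (δLie k L)

theorem comulU_ι (x : L) : comulU k L (ιU x) = ιU x ⊗ₜ[k] (1 : U) + (1 : U) ⊗ₜ[k] ιU x := by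
  unfold comulU
  rw [UniversalEnvelopingAlgebra.lift_ι_apply]
  rfl

/-- counit of `U(L)`. -/
noncomputable def counitU : U →ₐ[k] k := UniversalEnvelopingAlgebra.lift k (0 : L →ₗ⁅k⁆ k)

theorem counitU_ι (x : L) : counitU k L (ιU x) = 0 := by
  unfold counitU
  rw [UniversalEnvelopingAlgebra.lift_ι_apply]
  rfl

theorem coassocU :
    (Algebra.TensorProduct.assoc k k k U U U).toAlgHom.comp
      ((Algebra.TensorProduct.map (comulU k L) (.id k U)).comp (comulU k L)) =
    (Algebra.TensorProduct.map (.id k U) (comulU k L)).comp (comulU k L) := by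
  apply alg_ext
  intro x
  simp only [AlgHom.comp_apply, comulU_ι, map_add, Algebra.TensorProduct.map_tmul, map_one,
    AlgHom.coe_id, id_eq, AlgHom.coe_coe, add_tmul, tmul_add,
    Algebra.TensorProduct.assoc_tmul, Algebra.TensorProduct.one_def]
  abel

theorem rTensorU :
    (Algebra.TensorProduct.map (counitU k L) (.id k U)).comp (comulU k L) =
      (Algebra.TensorProduct.lid k U).symm := by
  apply alg_ext
  intro x
  simp only [AlgHom.comp_apply, comulU_ι, map_add, Algebra.TensorProduct.map_tmul, map_one,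
    AlgHom.coe_id, id_eq, counitU_ι, zero_tmul, zero_add]
  rfl

theorem lTensorU :
    (Algebra.TensorProduct.map (.id k U) (counitU k L)).comp (comulU k L) =
      (Algebra.TensorProduct.rid k k U).symm := by
  apply alg_ext
  intro x
  simp only [AlgHom.comp_apply, comulU_ι, map_add, Algebra.TensorProduct.map_tmul, map_one,
    AlgHom.coe_id, id_eq, counitU_ι, tmul_zero, add_zero]
  rfl

noncomputable instance instBialgebraU : Bialgebra k U :=
  Bialgebra.ofAlgHom (comulU k L) (counitU k L) (coassocU k L) (rTensorU k L) (lTensorU k L)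

theorem comul_eq (a : U) : Coalgebra.comul (R := k) a = comulU k L a := rfl

theorem counit_eq (a : U) : Coalgebra.counit (R := k) a = counitU k L a := rfl

theorem comul_ι (x : L) :
    Coalgebra.comul (R := k) (ιU x) = ιU x ⊗ₜ[k] (1 : U) + (1 : U) ⊗ₜ[k] ιU x :=
  comulU_ι k L x

theorem counit_ι (x : L) : Coalgebra.counit (R := k) (ιU x) = 0 := counitU_ι k L x

theorem commU :
    (Algebra.TensorProduct.comm k U U).toAlgHom.comp (comulU k L) = comulU k L := by
  apply alg_ext
  intro x
  simp only [AlgHom.comp_apply, comulU_ι, map_add]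
  have h1 : (Algebra.TensorProduct.comm k U U).toAlgHom (ιU x ⊗ₜ[k] (1 : U)) =
      (1 : U) ⊗ₜ[k] ιU x := Algebra.TensorProduct.comm_tmul k _ _
  have h2 : (Algebra.TensorProduct.comm k U U).toAlgHom ((1 : U) ⊗ₜ[k] ιU x) =
      ιU x ⊗ₜ[k] (1 : U) := Algebra.TensorProduct.comm_tmul k _ _
  rw [h1, h2, add_comm]

instance instIsCocommU : Coalgebra.IsCocomm k U where
  comm_comp_comul := by
    apply LinearMap.ext
    intro a
    have := congrArg (fun f : U →ₐ[k] U ⊗[k] U => f a) (commU k L)
    exact this

/-- the Lie homomorphism `x ↦ op (-x)` into the opposite algebra. -/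
noncomputable def σLie : L →ₗ⁅k⁆ Uᵐᵒᵖ where
  toFun x := MulOpposite.op (-(ιU x))
  map_add' x y := by
    rw [map_add, neg_add, MulOpposite.op_add]
  map_smul' c x := by
    rw [map_smul, RingHom.id_apply, ← smul_neg, MulOpposite.op_smul]
  map_lie' := by
    intro x y
    rw [LieRing.of_associative_ring_bracket, ← MulOpposite.op_mul, ← MulOpposite.op_mul,
      ← MulOpposite.op_sub, LieHom.map_lie, LieRing.of_associative_ring_bracket]
    congr 1
    noncomm_ring

/-- the antipode as an algebra map to the opposite algebra. -/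
noncomputable def antiU : U →ₐ[k] Uᵐᵒᵖ := UniversalEnvelopingAlgebra.lift k (σLie k L)

/-- the antipode of `U(L)`. -/
noncomputable def antipodeU : U →ₗ[k] U :=
  (MulOpposite.opLinearEquiv k).symm.toLinearMap ∘ₗ (antiU k L).toLinearMap

theorem antipodeU_apply (a : U) : antipodeU k L a = MulOpposite.unop (antiU k L a) := rfl

theorem antipodeU_ι (x : L) : antipodeU k L (ιU x) = -(ιU x) := by
  rw [antipodeU_apply]
  unfold antiU
  rw [UniversalEnvelopingAlgebra.lift_ι_apply]
  rfl

theorem antipodeU_mul (a c : U) : antipodeU k L (a * c) = antipodeU k L c * antipodeU k L a := by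
  rw [antipodeU_apply, antipodeU_apply, antipodeU_apply, map_mul, MulOpposite.unop_mul]

theorem antipodeU_one : antipodeU k L 1 = 1 := by
  rw [antipodeU_apply, map_one, MulOpposite.unop_one]

theorem antipodeU_algebraMap (r : k) : antipodeU k L (algebraMap k U r) = algebraMap k U r := by
  rw [antipodeU_apply, AlgHom.commutes]
  rfl

/-- `mul ∘ (S ⊗ id)`. -/
noncomputable def ΘR : U ⊗[k] U →ₗ[k] U := LinearMap.mul' k U ∘ₗ (antipodeU k L).rTensor U

/-- `mul ∘ (id ⊗ S)`. -/
noncomputable def ΘL : U ⊗[k] U →ₗ[k] U := LinearMap.mul' k U ∘ₗ (antipodeU k L).lTensor U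

theorem ΘR_tmul (a c : U) : ΘR k L (a ⊗ₜ c) = antipodeU k L a * c := by
  simp [ΘR]

theorem ΘL_tmul (a c : U) : ΘL k L (a ⊗ₜ c) = a * antipodeU k L c := by
  simp [ΘL]

theorem ΘR_mul_tmul (T : U ⊗[k] U) (c₁ c₂ : U) :
    ΘR k L (T * (c₁ ⊗ₜ c₂)) = antipodeU k L c₁ * ΘR k L T * c₂ := by
  induction T using TensorProduct.induction_on with
  | zero => simp
  | tmul a a' =>
    rw [Algebra.TensorProduct.tmul_mul_tmul, ΘR_tmul, ΘR_tmul, antipodeU_mul]
    simp only [mul_assoc]
  | add T T' h h' => rw [add_mul, map_add, h, h', map_add, mul_add, add_mul]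

theorem ΘL_tmul_mul (T : U ⊗[k] U) (a₁ a₂ : U) :
    ΘL k L ((a₁ ⊗ₜ a₂) * T) = a₁ * ΘL k L T * antipodeU k L a₂ := by
  induction T using TensorProduct.induction_on with
  | zero => simp
  | tmul c c' =>
    rw [Algebra.TensorProduct.tmul_mul_tmul, ΘL_tmul, ΘL_tmul, antipodeU_mul]
    simp only [mul_assoc]
  | add T T' h h' => rw [mul_add, map_add, h, h', map_add, mul_add, add_mul]

theorem ΘR_mul_of_scalar (T T' : U ⊗[k] U) (e : k) (hT : ΘR k L T = e • 1) :
    ΘR k L (T * T') = e • ΘR k L T' := by
  induction T' using TensorProduct.induction_on with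
  | zero => simp
  | tmul c₁ c₂ =>
    rw [ΘR_mul_tmul, hT, ΘR_tmul, mul_smul_comm, mul_one, smul_mul_assoc]
  | add T₁ T₂ h h' => rw [mul_add, map_add, h, h', map_add, smul_add]

theorem ΘL_mul_of_scalar (T T' : U ⊗[k] U) (e : k) (hT : ΘL k L T' = e • 1) :
    ΘL k L (T * T') = e • ΘL k L T := by
  induction T using TensorProduct.induction_on with
  | zero => simp
  | tmul a₁ a₂ =>
    rw [ΘL_tmul_mul, hT, ΘL_tmul, mul_smul_comm, mul_one, smul_mul_assoc]
  | add T₁ T₂ h h' => rw [add_mul, map_add, h, h', map_add, smul_add]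

theorem antipode_right (a : U) : ΘR k L (comulU k L a) = counitU k L a • (1 : U) := by
  induction a using PBWR.U_induction with
  | h0 r =>
    rw [AlgHom.commutes, AlgHom.commutes, Algebra.TensorProduct.algebraMap_apply, ΘR_tmul,
      antipodeU_algebraMap, mul_one, Algebra.algebraMap_eq_smul_one]
    rfl
  | h1 x =>
    rw [comulU_ι, map_add, ΘR_tmul, ΘR_tmul, antipodeU_ι, antipodeU_one, counitU_ι, zero_smul,
      mul_one, one_mul, neg_add_cancel]
  | hmul a c ha hc =>
    rw [map_mul, ΘR_mul_of_scalar k L _ _ _ ha, hc, map_mul, smul_smul]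
  | hadd a c ha hc =>
    rw [map_add, map_add, ha, hc, map_add, add_smul]

theorem antipode_left (a : U) : ΘL k L (comulU k L a) = counitU k L a • (1 : U) := by
  induction a using PBWR.U_induction with
  | h0 r =>
    rw [AlgHom.commutes, AlgHom.commutes, Algebra.TensorProduct.algebraMap_apply, ΘL_tmul,
      antipodeU_one, mul_one, Algebra.algebraMap_eq_smul_one]
    rfl
  | h1 x =>
    rw [comulU_ι, map_add, ΘL_tmul, ΘL_tmul, antipodeU_ι, antipodeU_one, counitU_ι, zero_smul,
      mul_one, one_mul, add_neg_cancel]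
  | hmul a c ha hc =>
    rw [map_mul, ΘL_mul_of_scalar k L _ _ _ hc, ha, map_mul, smul_smul, mul_comm]
  | hadd a c ha hc =>
    rw [map_add, map_add, ha, hc, map_add, add_smul]

noncomputable instance instHopfAlgebraU : HopfAlgebra k U where
  antipode := antipodeU k L
  mul_antipode_rTensor_comul := by
    apply LinearMap.ext
    intro a
    have := antipode_right k L a
    rw [← Algebra.algebraMap_eq_smul_one] at this
    exact this
  mul_antipode_lTensor_comul := by
    apply LinearMap.ext
    intro a
    have := antipode_left k L a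
    rw [← Algebra.algebraMap_eq_smul_one] at this
    exact this

theorem antipode_eq (a : U) : HopfAlgebra.antipode k a = antipodeU k L a := rfl

end Groth.Agent.Lib.Helper6.PLieL.UH
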