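import Mathlib
import Groth.Agent.Lib.Helper6.PLieL.UHopf
import Groth.Agent.Lib.Helper6.PLieL.RestrAdo

/-!
# The restricted enveloping algebra as a Hopf algebra quotient
-/

set_option linter.unusedSectionVars false
set_option linter.unusedVariables false
set_option linter.unusedSimpArgs false
set_option autoImplicit false
set_option linter.style.haveILetI false
set_option maxHeartbeats 400000

universe u v w

namespace Groth.Agent.Lib.Helper6.PLieL

open TensorProduct UH

attribute [local instance 100] LieRing.ofAssociativeRing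

section Q

variable {k : Type u} [CommRing k] {L : Type v} [LieRing L] [LieAlgebra k L]
  {ι : Type w} (b : Module.Basis ι k L) (p : ℕ) [hp : Fact p.Prime] [CharP k p]
  (y : ι → L) (hy : ∀ i : ι, LieAlgebra.ad k L (b i) ^ p = LieAlgebra.ad k L (y i))

local notation "U" => UniversalEnvelopingAlgebra k L
local notation "ιU" => UniversalEnvelopingAlgebra.ι k (L := L)

include hy in
theorem J_isTwoSided : (Jid b p y).IsTwoSided := by
  constructor
  intro a c ha
  unfold Jid Ideal.span at ha ⊢
  induction ha using Submodule.span_induction with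
  | mem a ha =>
    obtain ⟨i, rfl⟩ := ha
    rw [(ξ_central p b y hy i c).eq]
    exact Submodule.smul_mem _ c (Submodule.subset_span ⟨i, rfl⟩)
  | zero => rw [zero_mul]; exact Submodule.zero_mem _
  | add v w _ _ hv hw => rw [add_mul]; exact Submodule.add_mem _ hv hw
  | smul a' v _ hv =>
    rw [smul_eq_mul, mul_assoc]
    exact Submodule.smul_mem _ a' hv

theorem charP_tensor : CharP (U ⊗[k] U) p :=
  charP_of_injective_algebraMap (Bialgebra.algebraMap_injective (R := k) (U ⊗[k] U)) p

theorem comul_ξ (i : ι) :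
    Coalgebra.comul (R := k) (ξ p b y i) = ξ p b y i ⊗ₜ[k] (1 : U) + (1 : U) ⊗ₜ[k] ξ p b y i := by
  haveI := charP_tensor (k := k) (L := L) p
  unfold ξ
  rw [map_sub, comul_ι, ← Bialgebra.comulAlgHom_apply, map_pow, Bialgebra.comulAlgHom_apply,
    comul_ι]
  have hc : Commute (ιU (b i) ⊗ₜ[k] (1 : U)) ((1 : U) ⊗ₜ[k] ιU (b i)) := by
    show _ * _ = _ * _
    rw [Algebra.TensorProduct.tmul_mul_tmul, Algebra.TensorProduct.tmul_mul_tmul, one_mul,
      mul_one]
  rw [add_pow_char_of_commute p hc, Algebra.TensorProduct.tmul_pow,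
    Algebra.TensorProduct.tmul_pow, one_pow, sub_tmul, tmul_sub]
  abel

theorem counit_ξ (i : ι) : Coalgebra.counit (R := k) (ξ p b y i) = 0 := by
  unfold ξ
  rw [map_sub, counit_ι, ← Bialgebra.counitAlgHom_apply, map_pow, Bialgebra.counitAlgHom_apply,
    counit_ι, zero_pow hp.out.ne_zero, sub_zero]

theorem antipodeU_pow (a : U) (n : ℕ) : antipodeU k L (a ^ n) = antipodeU k L a ^ n := by
  induction n with
  | zero => rw [pow_zero, pow_zero, antipodeU_one]
  | succ n ih => rw [pow_succ, antipodeU_mul, ih, pow_succ']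

theorem antipode_ξ (i : ι) : antipodeU k L (ξ p b y i) = -(ξ p b y i) := by
  unfold ξ
  rw [map_sub, antipodeU_pow, antipodeU_ι, antipodeU_ι]
  have h1 : (-(ιU (b i))) ^ p = -((ιU (b i)) ^ p) := by
    have : -(ιU (b i)) = (-1 : k) • ιU (b i) := by rw [neg_smul, one_smul]
    rw [this, smul_pow, neg_one_pow_char k p, neg_smul, one_smul]
  rw [h1]
  abel

theorem counit_mem_J {x : U} (hx : x ∈ Jid b p y) : Coalgebra.counit (R := k) x = 0 := by
  unfold Jid Ideal.span at hx
  induction hx using Submodule.span_induction with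
  | mem a ha =>
    obtain ⟨i, rfl⟩ := ha
    exact counit_ξ b p y i
  | zero => exact map_zero _
  | add v w _ _ hv hw => rw [map_add, hv, hw, add_zero]
  | smul a v _ hv => rw [smul_eq_mul, Bialgebra.counit_mul, hv, mul_zero]

/-- the algebra map `U → U/J ⊗ U/J`. -/
noncomputable def ΦJ [(Jid b p y).IsTwoSided] :
    U →ₐ[k] (U ⧸ Jid b p y) ⊗[k] (U ⧸ Jid b p y) :=
  (Algebra.TensorProduct.map (Ideal.Quotient.mkₐ k (Jid b p y))
    (Ideal.Quotient.mkₐ k (Jid b p y))).comp (Bialgebra.comulAlgHom k U)

theorem ΦJ_ξ [(Jid b p y).IsTwoSided] (i : ι) : ΦJ b p y (ξ p b y i) = 0 := by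
  unfold ΦJ
  rw [AlgHom.comp_apply, Bialgebra.comulAlgHom_apply, comul_ξ, map_add,
    Algebra.TensorProduct.map_tmul, Algebra.TensorProduct.map_tmul]
  have h0 : Ideal.Quotient.mkₐ k (Jid b p y) (ξ p b y i) = 0 := by
    rw [Ideal.Quotient.mkₐ_eq_mk, Ideal.Quotient.eq_zero_iff_mem]
    exact Ideal.subset_span ⟨i, rfl⟩
  rw [h0, zero_tmul, tmul_zero, add_zero]

theorem ΦJ_mem [(Jid b p y).IsTwoSided] {x : U} (hx : x ∈ Jid b p y) : ΦJ b p y x = 0 := by
  unfold Jid Ideal.span at hx
  induction hx using Submodule.span_induction with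
  | mem a ha =>
    obtain ⟨i, rfl⟩ := ha
    exact ΦJ_ξ b p y i
  | zero => exact map_zero _
  | add v w _ _ hv hw => rw [map_add, hv, hw, add_zero]
  | smul a v _ hv => rw [smul_eq_mul, map_mul, hv, mul_zero]

theorem J_isCoideal [(Jid b p y).IsTwoSided] :
    ((Jid b p y).restrictScalars k).IsCoideal := by
  constructor
  · intro x hx
    exact counit_mem_J b p y hx
  · intro x hx
    exact ΦJ_mem b p y hx

include hy in
theorem antipode_mem_J {x : U} (hx : x ∈ Jid b p y) : antipodeU k L x ∈ Jid b p y := by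
  unfold Jid Ideal.span at hx
  induction hx using Submodule.span_induction with
  | mem a ha =>
    obtain ⟨i, rfl⟩ := ha
    rw [antipode_ξ]
    exact Submodule.neg_mem _ (Ideal.subset_span ⟨i, rfl⟩)
  | zero => rw [map_zero]; exact Submodule.zero_mem _
  | add v w _ _ hv hw => rw [map_add]; exact Submodule.add_mem _ hv hw
  | smul a v _ hv =>
    rw [smul_eq_mul, antipodeU_mul]
    haveI := J_isTwoSided b p y hy
    exact Ideal.mul_mem_right _ _ hv

include hy in
theorem J_isHopfIdeal [(Jid b p y).IsTwoSided] : (Jid b p y).IsHopfIdeal k := by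
  haveI := J_isCoideal b p y
  constructor
  intro x hx
  exact antipode_mem_J b p y hy hx

end Q

end Groth.Agent.Lib.Helper6.PLieL
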