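import Mathlib
import Groth.Agent.Lib.Helper6.PLieL.UQuot

/-!
# Structure of the restricted enveloping algebra: basis, coproduct of monomials, primitives
-/

set_option linter.unusedSectionVars false
set_option linter.unusedVariables false
set_option linter.unusedSimpArgs false
set_option autoImplicit false
set_option linter.style.haveILetI false
set_option maxHeartbeats 400000

universe u v w

namespace Groth.Agent.Lib.Helper6.PLieL

open TensorProduct UH PBWR
open Multiset (card)

attribute [local instance 100] LieRing.ofAssociativeRing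

section Count

variable {α : Type*} [DecidableEq α]

theorem prodmap_id_cons_injective (a : α) :
    Function.Injective (Prod.map (id : Multiset α → Multiset α) (Multiset.cons a)) := by
  rintro ⟨x1, x2⟩ ⟨y1, y2⟩ h
  simp only [Prod.map_apply, id_eq, Prod.mk.injEq] at h
  rw [h.1, Multiset.cons_inj_right a |>.mp h.2]

theorem prodmap_cons_id_injective (a : α) :
    Function.Injective (Prod.map (Multiset.cons a) (id : Multiset α → Multiset α)) := by
  rintro ⟨x1, x2⟩ ⟨y1, y2⟩ h
  simp only [Prod.map_apply, id_eq, Prod.mk.injEq] at h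
  rw [h.2, Multiset.cons_inj_right a |>.mp h.1]

theorem count_zero_antidiagonal (t : Multiset α) :
    (Multiset.antidiagonal t).count ((0 : Multiset α), t) = 1 := by
  induction t using Multiset.induction_on with
  | empty =>
    rw [Multiset.antidiagonal_zero]
    simp
  | cons a s ih =>
    rw [Multiset.antidiagonal_cons, Multiset.count_add]
    have h1 : (Multiset.map (Prod.map id (Multiset.cons a)) (Multiset.antidiagonal s)).count
        ((0 : Multiset α), a ::ₘ s) = 1 := by
      have := Multiset.count_map_eq_count' (Prod.map id (Multiset.cons a))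
        (Multiset.antidiagonal s) (prodmap_id_cons_injective a) ((0 : Multiset α), s)
      rw [ih] at this
      exact this
    have h2 : (Multiset.map (Prod.map (Multiset.cons a) id) (Multiset.antidiagonal s)).count
        ((0 : Multiset α), a ::ₘ s) = 0 := by
      apply Multiset.count_eq_zero_of_notMem
      intro hmem
      rw [Multiset.mem_map] at hmem
      obtain ⟨⟨x1, x2⟩, _, hx⟩ := hmem
      rw [Prod.map_apply, Prod.mk.injEq] at hx
      exact Multiset.cons_ne_zero hx.1
    rw [h1, h2]

theorem count_singleton_antidiagonal (n : ℕ) : ∀ (t : Multiset α), card t = n → ∀ i : α,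
    (Multiset.antidiagonal (i ::ₘ t)).count (({i} : Multiset α), t) = t.count i + 1 := by
  induction n with
  | zero =>
    intro t ht i
    rw [Multiset.card_eq_zero] at ht
    subst ht
    have : Multiset.antidiagonal (i ::ₘ (0 : Multiset α)) =
        {((0 : Multiset α), ({i} : Multiset α)), (({i} : Multiset α), (0 : Multiset α))} := by
      rw [Multiset.antidiagonal_cons, Multiset.antidiagonal_zero]
      rfl
    rw [this]
    simp
  | succ n ih =>
    intro t ht i
    rw [Multiset.antidiagonal_cons, Multiset.count_add]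
    have h2 : (Multiset.map (Prod.map (Multiset.cons i) id) (Multiset.antidiagonal t)).count
        (({i} : Multiset α), t) = 1 := by
      have := Multiset.count_map_eq_count' (Prod.map (Multiset.cons i) id)
        (Multiset.antidiagonal t) (prodmap_cons_id_injective i) ((0 : Multiset α), t)
      rw [count_zero_antidiagonal] at this
      exact this
    rw [h2]
    congr 1
    by_cases hi : i ∈ t
    · obtain ⟨t', rfl⟩ := Multiset.exists_cons_of_mem hi
      have ht' : card t' = n := by
        rw [Multiset.card_cons] at ht; omega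
      have := Multiset.count_map_eq_count' (Prod.map id (Multiset.cons i))
        (Multiset.antidiagonal (i ::ₘ t')) (prodmap_id_cons_injective i)
        (({i} : Multiset α), t')
      rw [ih t' ht' i] at this
      rw [Multiset.count_cons_self]
      exact this
    · rw [Multiset.count_eq_zero_of_notMem hi]
      apply Multiset.count_eq_zero_of_notMem
      intro hmem
      rw [Multiset.mem_map] at hmem
      obtain ⟨⟨x1, x2⟩, _, hx⟩ := hmem
      rw [Prod.map_apply, Prod.mk.injEq] at hx
      apply hi
      rw [← hx.2]
      exact Multiset.mem_cons_self i _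

end Count

section Mono

variable {k : Type u} [CommRing k] {L : Type v} [LieRing L] [LieAlgebra k L]
  {ι : Type w} [LinearOrder ι] (b : Module.Basis ι k L)

local notation "U" => UniversalEnvelopingAlgebra k L
local notation "ιU" => UniversalEnvelopingAlgebra.ι k (L := L)

theorem comul_ε (i : ι) :
    Coalgebra.comul (R := k) (ε k b i) = ε k b i ⊗ₜ[k] (1 : U) + (1 : U) ⊗ₜ[k] ε k b i :=
  comul_ι k L (b i)

/-- coproduct of ordered monomials (list version). -/
theorem comul_mono_sorted (l : List ι) (hl : l.Pairwise (· ≤ ·)) :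
    Coalgebra.comul (R := k) (mono b l) =
      ((Multiset.antidiagonal (l : Multiset ι)).map
        (fun t => M b t.1 ⊗ₜ[k] M b t.2)).sum := by
  induction l with
  | nil =>
    rw [mono_nil, Bialgebra.comul_one]
    show _ = ((Multiset.antidiagonal (0 : Multiset ι)).map _).sum
    rw [Multiset.antidiagonal_zero, Multiset.map_singleton, Multiset.sum_singleton, M_zero]
    rfl
  | cons i l ih =>
    rw [List.pairwise_cons] at hl
    rw [mono_cons, Bialgebra.comul_mul, ih hl.2, comul_ε]
    have hcons : ((i :: l : List ι) : Multiset ι) = i ::ₘ (l : Multiset ι) := rfl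
    rw [hcons, Multiset.antidiagonal_cons, Multiset.map_add, Multiset.sum_add,
      Multiset.map_map, Multiset.map_map, add_mul, ← Multiset.sum_map_mul_left,
      ← Multiset.sum_map_mul_left, add_comm]
    congr 1
    · congr 1
      apply Multiset.map_congr rfl
      intro t ht
      rw [Multiset.mem_antidiagonal] at ht
      simp only [Function.comp_apply, Prod.map_fst, Prod.map_snd, id_eq]
      rw [Algebra.TensorProduct.tmul_mul_tmul, one_mul, M_cons b i t.2]
      intro x hx
      apply hl.1 x
      have : x ∈ t.1 + t.2 := Multiset.mem_add.mpr (Or.inr hx)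
      rw [ht] at this
      exact Multiset.mem_coe.mp this
    · congr 1
      apply Multiset.map_congr rfl
      intro t ht
      rw [Multiset.mem_antidiagonal] at ht
      simp only [Function.comp_apply, Prod.map_fst, Prod.map_snd, id_eq]
      rw [Algebra.TensorProduct.tmul_mul_tmul, one_mul, M_cons b i t.1]
      intro x hx
      apply hl.1 x
      have : x ∈ t.1 + t.2 := Multiset.mem_add.mpr (Or.inl hx)
      rw [ht] at this
      exact Multiset.mem_coe.mp this

/-- coproduct of ordered monomials. -/
theorem comul_M (s : Multiset ι) :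
    Coalgebra.comul (R := k) (M b s) =
      ((Multiset.antidiagonal s).map (fun t => M b t.1 ⊗ₜ[k] M b t.2)).sum := by
  have := comul_mono_sorted b (s.sort (· ≤ ·)) (Multiset.pairwise_sort s (· ≤ ·))
  rw [Multiset.sort_eq] at this
  exact this

end Mono

section Quot

variable {k : Type u} [CommRing k] {L : Type v} [LieRing L] [LieAlgebra k L]
  {ι : Type w} [LinearOrder ι] (b : Module.Basis ι k L) (p : ℕ) [hp : Fact p.Prime] [CharP k p]
  (y : ι → L) (hy : ∀ i : ι, LieAlgebra.ad k L (b i) ^ p = LieAlgebra.ad k L (y i))
  [(Jid b p y).IsTwoSided]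

local notation "U" => UniversalEnvelopingAlgebra k L
local notation "ιU" => UniversalEnvelopingAlgebra.ι k (L := L)

/-- restricted exponents. -/
abbrev Rr (ι : Type w) [DecidableEq ι] (p : ℕ) : Type w := {r : Multiset ι // ∀ i, r.count i < p}

/-- the quotient map as a linear map. -/
noncomputable def πq : U →ₗ[k] U ⧸ Jid b p y := (Ideal.Quotient.mkₐ k (Jid b p y)).toLinearMap

theorem πq_apply (a : U) : πq b p y a = Ideal.Quotient.mk (Jid b p y) a := rfl

theorem πq_eq_zero_iff (a : U) : πq b p y a = 0 ↔ a ∈ Jid b p y := by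
  rw [πq_apply, Ideal.Quotient.eq_zero_iff_mem]

/-- restricted monomials in the quotient. -/
noncomputable def mq (r : Rr ι p) : U ⧸ Jid b p y := πq b p y (M b r.1)

include hy in
theorem W0_disjoint_W : Disjoint (W0sp b p y hy) (Wsp b p y hy) := by
  unfold W0sp Wsp
  apply (uB_linearIndependent b p y hy).disjoint_span_image
  rw [Set.disjoint_left]
  intro a ha hb
  exact hb ha

include hy in
theorem mq_linearIndependent : LinearIndependent k (mq b p y) := by
  have hv : LinearIndependent k (fun r : Rr ι p => uB b p y hy (0, r)) := by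
    apply (uB_linearIndependent b p y hy).comp (fun r : Rr ι p => ((0, r) : RIdx ι p))
    intro r r' h
    exact (Prod.mk.injEq _ _ _ _ ▸ h).2
  have hmq : mq b p y = (πq b p y) ∘ (fun r : Rr ι p => uB b p y hy (0, r)) := by
    funext r
    unfold mq uB
    rw [Function.comp_apply, ξc_zero, one_mul]
  rw [hmq]
  apply hv.map
  rw [Submodule.disjoint_def]
  intro x hx0 hxker
  rw [LinearMap.mem_ker, πq_eq_zero_iff] at hxker
  have hxW := J_le_W b p y hy hxker
  have hx0' : x ∈ W0sp b p y hy := by
    unfold W0sp
    refine Submodule.span_mono ?_ hx0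
    rintro _ ⟨r, rfl⟩
    exact ⟨(0, r), rfl, rfl⟩
  exact Submodule.disjoint_def.mp (W0_disjoint_W b p y hy) x hx0' hxW

include hy in
theorem mq_span : Submodule.span k (Set.range (mq b p y)) = ⊤ := by
  rw [eq_top_iff]
  rintro n -
  obtain ⟨a, rfl⟩ := Ideal.Quotient.mk_surjective n
  rw [← πq_apply]
  have ha : a ∈ Submodule.span k (Set.range (uB b p y hy)) := by
    rw [uB_span]; trivial
  induction ha using Submodule.span_induction with
  | mem a ha =>
    obtain ⟨x, rfl⟩ := ha
    by_cases hx : x.1 = 0
    · apply Submodule.subset_span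
      refine ⟨x.2, ?_⟩
      unfold mq
      rw [uB, hx, ξc_zero, one_mul]
    · have := uB_mem_J b p y hy x hx
      rw [(πq_eq_zero_iff b p y _).mpr this]
      exact zero_mem _
  | zero => rw [map_zero]; exact zero_mem _
  | add v w _ _ hv hw => rw [map_add]; exact add_mem hv hw
  | smul c v _ hv => rw [map_smul]; exact Submodule.smul_mem _ _ hv

/-- the basis of restricted monomials of the restricted enveloping algebra. -/
noncomputable def mqBasis : Module.Basis (Rr ι p) k (U ⧸ Jid b p y) :=
  Module.Basis.mk (mq_linearIndependent b p y hy) (mq_span b p y hy).ge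

theorem mqBasis_apply (r : Rr ι p) : mqBasis b p y hy r = mq b p y r := by
  unfold mqBasis
  rw [Module.Basis.mk_apply]

end Quot

section SumCount

theorem sum_map_ite_eq_count {α : Type*} [DecidableEq α] {R : Type*} [Semiring R]
    (m : Multiset α) (a : α) :
    (m.map (fun τ => if τ = a then (1 : R) else 0)).sum = (m.count a : R) := by
  induction m using Multiset.induction_on with
  | empty => simp
  | cons c m ih =>
    rw [Multiset.map_cons, Multiset.sum_cons, ih, Multiset.count_cons]
    by_cases h : c = a
    · subst h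
      simp [add_comm]
    · have h' : ¬ a = c := fun h'' => h h''.symm
      simp [h, h']

end SumCount

section Prim

variable {k : Type u} [CommRing k] {L : Type v} [LieRing L] [LieAlgebra k L]
  {ι : Type w} [LinearOrder ι] (b : Module.Basis ι k L) (p : ℕ) [hp : Fact p.Prime] [CharP k p]
  (y : ι → L) (hy : ∀ i : ι, LieAlgebra.ad k L (b i) ^ p = LieAlgebra.ad k L (y i))
  [(Jid b p y).IsTwoSided] [(Jid b p y).IsHopfIdeal k]

local notation "U" => UniversalEnvelopingAlgebra k L
local notation "ιU" => UniversalEnvelopingAlgebra.ι k (L := L)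

theorem comul_πq (a : U) :
    Coalgebra.comul (R := k) (πq b p y a) =
      TensorProduct.map (πq b p y) (πq b p y) (Coalgebra.comul (R := k) a) := rfl

theorem counit_πq (a : U) :
    Coalgebra.counit (R := k) (πq b p y a) = Coalgebra.counit (R := k) a := rfl

theorem πq_one : πq b p y 1 = 1 := rfl

theorem πq_mul (a c : U) : πq b p y (a * c) = πq b p y a * πq b p y c := rfl

theorem comul_πq_M (s : Multiset ι) :
    Coalgebra.comul (R := k) (πq b p y (M b s)) =
      ((Multiset.antidiagonal s).map
        (fun t => πq b p y (M b t.1) ⊗ₜ[k] πq b p y (M b t.2))).sum := by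
  rw [comul_πq, comul_M, map_multiset_sum, Multiset.map_map]
  rfl

instance instIsCocommQuot : Coalgebra.IsCocomm k (U ⧸ Jid b p y) where
  comm_comp_comul := by
    apply LinearMap.ext
    intro n
    obtain ⟨a, rfl⟩ := Ideal.Quotient.mk_surjective n
    rw [← πq_apply]
    simp only [LinearMap.coe_comp, LinearEquiv.coe_coe, Function.comp_apply]
    rw [comul_πq, ← TensorProduct.map_comm, Coalgebra.comm_comul]

theorem restricted_of_le {r s : Multiset ι} (hr : ∀ i, r.count i < p) (h : s ≤ r) :
    ∀ i, s.count i < p := fun i => lt_of_le_of_lt (Multiset.count_le_of_le i h) (hr i)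

include hy in
theorem repr_πM (τ : Multiset ι) (hτ : ∀ i, τ.count i < p) (s : Rr ι p) :
    (mqBasis b p y hy).repr (πq b p y (M b τ)) s = if τ = s.1 then 1 else 0 := by
  have h1 : πq b p y (M b τ) = mqBasis b p y hy ⟨τ, hτ⟩ := by
    rw [mqBasis_apply]; rfl
  rw [h1, Module.Basis.repr_self, Finsupp.single_apply]
  by_cases h : τ = s.1
  · have : (⟨τ, hτ⟩ : Rr ι p) = s := Subtype.ext h
    rw [if_pos this, if_pos h]
  · have : ¬ (⟨τ, hτ⟩ : Rr ι p) = s := fun h' => h (congrArg Subtype.val h')
    rw [if_neg this, if_neg h]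

/-- the coefficient functional on the tensor square. -/
noncomputable def Cst (s t : Rr ι p) :
    (U ⧸ Jid b p y) ⊗[k] (U ⧸ Jid b p y) →ₗ[k] k :=
  (Finsupp.lapply (s, t)) ∘ₗ
    ((mqBasis b p y hy).tensorProduct (mqBasis b p y hy)).repr.toLinearMap

theorem Cst_tmul (s t : Rr ι p) (m n : U ⧸ Jid b p y) :
    Cst b p y hy s t (m ⊗ₜ[k] n) =
      (mqBasis b p y hy).repr n t * (mqBasis b p y hy).repr m s := by
  unfold Cst
  rw [LinearMap.comp_apply, LinearEquiv.coe_coe, Finsupp.lapply_apply,
    Module.Basis.tensorProduct_repr_tmul_apply, smul_eq_mul]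

/-- coefficients of the coproduct of a restricted monomial. -/
theorem coef_comul_mq (r s t : Rr ι p) :
    Cst b p y hy s t (Coalgebra.comul (R := k) (mq b p y r)) =
      ((Multiset.antidiagonal r.1).count (s.1, t.1) : k) := by
  unfold mq
  rw [comul_πq_M, map_multiset_sum, Multiset.map_map, ← sum_map_ite_eq_count]
  congr 1
  apply Multiset.map_congr rfl
  intro τ hτ
  rw [Multiset.mem_antidiagonal] at hτ
  have h1 : ∀ i, τ.1.count i < p :=
    restricted_of_le p r.2 (by rw [← hτ]; exact Multiset.le_add_right _ _)
  have h2 : ∀ i, τ.2.count i < p :=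
    restricted_of_le p r.2 (by rw [← hτ]; exact Multiset.le_add_left _ _)
  rw [Function.comp_apply, Cst_tmul, repr_πM b p y hy τ.1 h1, repr_πM b p y hy τ.2 h2]
  by_cases ha : τ = (s.1, t.1)
  · rw [if_pos ha]
    rw [Prod.ext_iff] at ha
    rw [if_pos ha.1, if_pos ha.2, mul_one]
  · rw [if_neg ha]
    by_cases hb : τ.1 = s.1
    · have hc : ¬ τ.2 = t.1 := fun hc => ha (Prod.ext hb hc)
      rw [if_neg hc, zero_mul]
    · rw [if_neg hb, mul_zero]

theorem zero_restricted : ∀ i : ι, (0 : Multiset ι).count i < p := by
  intro i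
  rw [Multiset.count_zero]
  exact hp.out.pos

theorem one_eq_mq : (1 : U ⧸ Jid b p y) = mq b p y ⟨0, zero_restricted p⟩ := by
  unfold mq
  show _ = πq b p y (M b 0)
  rw [M_zero, πq_one]

include hy in
theorem repr_one (t : Rr ι p) :
    (mqBasis b p y hy).repr (1 : U ⧸ Jid b p y) t = if (0 : Multiset ι) = t.1 then 1 else 0 := by
  have := repr_πM b p y hy 0 (zero_restricted p) t
  rw [M_zero, πq_one] at this
  exact this

/-- evaluation of the coefficient functional of the coproduct through the basis. -/
theorem Cst_comul_eq (x : U ⧸ Jid b p y) (s t : Rr ι p) :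
    Cst b p y hy s t (Coalgebra.comul (R := k) x) =
      ((mqBasis b p y hy).repr x).sum
        (fun r a => a * ((Multiset.antidiagonal r.1).count (s.1, t.1) : k)) := by
  conv_lhs => rw [← (mqBasis b p y hy).linearCombination_repr x]
  rw [Finsupp.linearCombination_apply, map_finsuppSum, map_finsuppSum]
  apply Finsupp.sum_congr
  intro r _
  rw [map_smul, map_smul, mqBasis_apply, coef_comul_mq, smul_eq_mul]

theorem Cst_comul_eq_single (x : U ⧸ Jid b p y) (s t r0 : Rr ι p) (hr0 : s.1 + t.1 = r0.1) :
    Cst b p y hy s t (Coalgebra.comul (R := k) x) =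
      (mqBasis b p y hy).repr x r0 * ((Multiset.antidiagonal r0.1).count (s.1, t.1) : k) := by
  rw [Cst_comul_eq, Finsupp.sum, Finset.sum_eq_single r0]
  · intro r _ hne
    have : (s.1, t.1) ∉ Multiset.antidiagonal r.1 := by
      rw [Multiset.mem_antidiagonal]
      intro h
      apply hne
      apply Subtype.ext
      rw [← h, hr0]
    rw [Multiset.count_eq_zero_of_notMem this, Nat.cast_zero, mul_zero]
  · intro h
    rw [Finsupp.notMem_support_iff.mp h, zero_mul]

theorem natCast_isUnit_of_lt {n : ℕ} (h0 : 0 < n) (hn : n < p) {a : k} (h : a * (n : k) = 0) :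
    a = 0 := by
  have := cinv_mul (R := k) p n h0 hn
  calc a = a * (cinv (R := k) p n * (n : k)) := by rw [this, mul_one]
    _ = (a * (n : k)) * cinv (R := k) p n := by ring
    _ = 0 := by rw [h, zero_mul]

/-- coordinates of a primitive element vanish outside degree one. -/
theorem repr_primitive_eq_zero (x : U ⧸ Jid b p y)
    (hx : Coalgebra.comul (R := k) x = x ⊗ₜ[k] 1 + 1 ⊗ₜ[k] x) (r0 : Rr ι p)
    (hr0 : card r0.1 ≠ 1) : (mqBasis b p y hy).repr x r0 = 0 := by
  by_cases h0 : r0.1 = 0
  · -- degree zero
    have hr : r0 = ⟨0, zero_restricted p⟩ := Subtype.ext h0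
    have h1 := Cst_comul_eq_single b p y hy x ⟨0, zero_restricted p⟩ ⟨0, zero_restricted p⟩ r0
      (by rw [h0, add_zero])
    rw [hx, map_add, Cst_tmul, Cst_tmul, repr_one, if_pos rfl, h0, Multiset.antidiagonal_zero] at h1
    rw [hr] at h1 ⊢
    simp only [Multiset.count_singleton_self, Nat.cast_one, mul_one, one_mul] at h1
    have h2 : (mqBasis b p y hy).repr x ⟨0, zero_restricted p⟩ +
        (mqBasis b p y hy).repr x ⟨0, zero_restricted p⟩ =
        (mqBasis b p y hy).repr x ⟨0, zero_restricted p⟩ := h1
    exact add_eq_right.mp h2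
  · -- degree at least two
    obtain ⟨i, hi⟩ := Multiset.exists_mem_of_ne_zero h0
    obtain ⟨t', ht'⟩ := Multiset.exists_cons_of_mem hi
    have hcard : card t' ≠ 0 := by
      intro hc
      apply hr0
      rw [ht', Multiset.card_cons, hc]
    have ht'0 : t' ≠ 0 := fun h => hcard (by rw [h, Multiset.card_zero])
    have hle : t' ≤ r0.1 := by rw [ht']; exact Multiset.le_cons_self t' i
    have hsle : ({i} : Multiset ι) ≤ r0.1 := Multiset.singleton_le.mpr hi
    have h1 := Cst_comul_eq_single b p y hy x ⟨{i}, restricted_of_le p r0.2 hsle⟩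
      ⟨t', restricted_of_le p r0.2 hle⟩ r0 (by
        show ({i} : Multiset ι) + t' = r0.1
        rw [Multiset.singleton_add]; exact ht'.symm)
    rw [hx, map_add, Cst_tmul, Cst_tmul, repr_one, repr_one] at h1
    simp only at h1
    rw [if_neg (fun h => ht'0 h.symm), if_neg (fun h => Multiset.singleton_ne_zero i h.symm),
      zero_mul, mul_zero, add_zero] at h1
    have h2 : (Multiset.antidiagonal r0.1).count (({i} : Multiset ι), t') = t'.count i + 1 := by
      rw [ht']
      exact count_singleton_antidiagonal (card t') t' rfl i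
    rw [h2] at h1
    have hlt : t'.count i + 1 < p := by
      have := r0.2 i
      rw [ht', Multiset.count_cons_self] at this
      exact this
    exact natCast_isUnit_of_lt p (Nat.succ_pos _) hlt h1.symm

include hy in
/-- primitive elements of the restricted enveloping algebra come from `L`. -/
theorem primitive_mem_range (x : U ⧸ Jid b p y)
    (hx : Coalgebra.comul (R := k) x = x ⊗ₜ[k] 1 + 1 ⊗ₜ[k] x) :
    ∃ ℓ : L, πq b p y (ιU ℓ) = x := by
  have hmem : x ∈ LinearMap.range
      ((πq b p y) ∘ₗ ((UniversalEnvelopingAlgebra.ι k : L →ₗ⁅k⁆ U) : L →ₗ[k] U)) := by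
    rw [← (mqBasis b p y hy).linearCombination_repr x, Finsupp.linearCombination_apply]
    apply Submodule.sum_mem
    intro r hr
    apply Submodule.smul_mem
    have hne : (mqBasis b p y hy).repr x r ≠ 0 := Finsupp.mem_support_iff.mp hr
    have hcard : card r.1 = 1 := by
      by_contra hc
      exact hne (repr_primitive_eq_zero b p y hy x hx r hc)
    obtain ⟨i, hi⟩ := Multiset.card_eq_one.mp hcard
    rw [mqBasis_apply]
    unfold mq
    refine ⟨b i, ?_⟩
    rw [hi]
    show πq b p y (ιU (b i)) = πq b p y (M b (i ::ₘ 0))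
    rw [M_cons b i 0 (by simp), M_zero, mul_one]
    rfl
  obtain ⟨ℓ, hℓ⟩ := hmem
  exact ⟨ℓ, hℓ⟩

end Prim

end Groth.Agent.Lib.Helper6.PLieL
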