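import Mathlib
import Groth.Agent.Lib.Helper6.PLieL.UQuot2
import Groth.Agent.Lib.Helper6.PLieL.DualLie

/-!
# The height-one Hopf algebra of a finite-dimensional restricted Lie algebra
-/

set_option linter.unusedSectionVars false
set_option linter.unusedVariables false
set_option linter.unusedSimpArgs false
set_option autoImplicit false
set_option linter.style.haveILetI false
set_option maxHeartbeats 400000

universe u v w

namespace Groth.Agent.Lib.Helper6.PLieL

open TensorProduct UH PBWR DL
open Multiset (card)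

attribute [local instance 100] LieRing.ofAssociativeRing

section RH

variable {k : Type u} [Field k] {L : Type v} [LieRing L] [LieAlgebra k L]
  {ι : Type w} [LinearOrder ι] (b : Module.Basis ι k L) (p : ℕ) [hp : Fact p.Prime] [CharP k p]
  (y : ι → L) (hy : ∀ i : ι, LieAlgebra.ad k L (b i) ^ p = LieAlgebra.ad k L (y i))
  [(Jid b p y).IsTwoSided] [(Jid b p y).IsHopfIdeal k]
  [Module.Finite k (UniversalEnvelopingAlgebra k L ⧸ Jid b p y)]

local notation "U" => UniversalEnvelopingAlgebra k L
local notation "ιU" => UniversalEnvelopingAlgebra.ι k (L := L)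
local notation "Uq" => UniversalEnvelopingAlgebra k L ⧸ Jid b p y
local notation "𝔇" => CartDual.D k (UniversalEnvelopingAlgebra k L ⧸ Jid b p y)

/-- the image of `L` in the restricted enveloping algebra. -/
noncomputable def ιq : L →ₗ[k] Uq :=
  (πq b p y) ∘ₗ ((UniversalEnvelopingAlgebra.ι k : L →ₗ⁅k⁆ U) : L →ₗ[k] U)

theorem ιq_apply (ℓ : L) : ιq b p y ℓ = πq b p y (ιU ℓ) := rfl

theorem ιq_primitive (ℓ : L) :
    Coalgebra.comul (R := k) (ιq b p y ℓ) =
      ιq b p y ℓ ⊗ₜ[k] 1 + 1 ⊗ₜ[k] ιq b p y ℓ := by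
  rw [ιq_apply, comul_πq, comul_ι, map_add, TensorProduct.map_tmul, TensorProduct.map_tmul,
    πq_one]

theorem ιq_lie (x x' : L) :
    ιq b p y ⁅x, x'⁆ = ιq b p y x * ιq b p y x' - ιq b p y x' * ιq b p y x := by
  rw [ιq_apply, ιq_apply, ιq_apply, LieHom.map_lie, LieRing.of_associative_ring_bracket, map_sub,
    πq_mul, πq_mul]

theorem πq_pow (a : U) (n : ℕ) : πq b p y (a ^ n) = πq b p y a ^ n := by
  induction n with
  | zero => rw [pow_zero, pow_zero, πq_one]
  | succ n ih => rw [pow_succ, πq_mul, ih, pow_succ]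

theorem ιq_phi (x : L) : ιq b p y (phi p b y x) = ιq b p y x ^ p := by
  rw [ιq_apply, ιq_apply, ι_phi, map_sub, πq_pow,
    (πq_eq_zero_iff b p y _).mpr (fC_mem_J b p y x), sub_zero]

include hy in
theorem ιq_injective : Function.Injective (ιq b p y) := by
  rw [injective_iff_map_eq_zero]
  intro x hx
  rw [ιq_apply, πq_eq_zero_iff] at hx
  exact eq_zero_of_ι_mem_J b p y hy x hx

/-- the Lie algebra map to derivations of the dual. -/
noncomputable def eDer : L →ₗ[k] Derivation k 𝔇 𝔇 where
  toFun ℓ := RDer (ιq b p y ℓ) (ιq_primitive b p y ℓ)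
  map_add' x x' := by
    apply Derivation.ext
    intro f
    show Rmul (ιq b p y (x + x')) f = Rmul (ιq b p y x) f + Rmul (ιq b p y x') f
    rw [map_add, Rmul_add]
    rfl
  map_smul' c x := by
    apply Derivation.ext
    intro f
    show Rmul (ιq b p y (c • x)) f = c • Rmul (ιq b p y x) f
    rw [map_smul, Rmul_smul]
    rfl

theorem eDer_apply (ℓ : L) (f : 𝔇) : eDer b p y ℓ f = Rmul (ιq b p y ℓ) f := rfl

theorem eDer_toLinearMap (ℓ : L) : (eDer b p y ℓ).toLinearMap = Rmul (ιq b p y ℓ) := rfl

include hy in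
theorem eDer_injective : Function.Injective (eDer b p y) := by
  rw [injective_iff_map_eq_zero]
  intro x hx
  apply ιq_injective b p y hy
  rw [map_zero]
  apply eq_zero_of_Rmul_eq_zero (k := k)
  rw [← eDer_toLinearMap, hx]
  rfl

theorem eDer_lie (x x' : L) : eDer b p y ⁅x, x'⁆ = ⁅eDer b p y x, eDer b p y x'⁆ := by
  apply Derivation.ext
  intro f
  rw [Derivation.commutator_apply, eDer_apply, eDer_apply, eDer_apply, eDer_apply, eDer_apply,
    ιq_lie, Rmul_sub, Rmul_mul, Rmul_mul]
  rfl

theorem eDer_phi (x : L) :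
    (eDer b p y (phi p b y x)).toLinearMap = (eDer b p y x).toLinearMap ^ p := by
  rw [eDer_toLinearMap, eDer_toLinearMap, ιq_phi, Rmul_pow]

include hy in
theorem eDer_range :
    Set.range (eDer b p y) = {D : Derivation k 𝔇 𝔇 |
      (Coalgebra.comul (R := k) (A := 𝔇)) ∘ₗ D.toLinearMap =
        LinearMap.lTensor 𝔇 D.toLinearMap ∘ₗ (Coalgebra.comul (R := k) (A := 𝔇))} := by
  ext D
  constructor
  · rintro ⟨ℓ, rfl⟩
    exact Rmul_leftInvariant (ιq b p y ℓ)
  · intro hD
    obtain ⟨x, hx, hDx⟩ := exists_primitive_of_leftInvariant D hD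
    obtain ⟨ℓ, rfl⟩ := primitive_mem_range b p y hy x hx
    refine ⟨ℓ, ?_⟩
    apply Derivation.ext
    intro f
    rw [eDer_apply, ιq_apply]
    exact (LinearMap.congr_fun hDx f).symm

include hy in
/-- height at most one. -/
theorem pow_p_eq_zero (f : 𝔇) (hf : f 1 = 0) : f ^ p = 0 := by
  apply WithConv.ext
  apply (mqBasis b p y hy).ext
  intro r
  rw [mqBasis_apply]
  show (f ^ p) (mq b p y r) = 0
  by_cases h0 : r.1 = 0
  · have : mq b p y r = 1 := by
      unfold mq
      rw [h0, M_zero, πq_one]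
    rw [this, pow_apply_one, hf, zero_pow hp.out.ne_zero]
  · obtain ⟨hj1, hj2⟩ := mn_spec r.1 (Classical.choice (by
      obtain ⟨i, _⟩ := Multiset.exists_mem_of_ne_zero h0
      exact ⟨i⟩)) h0
    set j := mn r.1 _ with hj
    obtain ⟨r', hr'⟩ := Multiset.exists_cons_of_mem hj1
    have hle : ∀ x ∈ r', j ≤ x := by
      intro x hx
      apply hj2
      rw [hr']
      exact Multiset.mem_cons_of_mem hx
    have : mq b p y r = ιq b p y (b j) * πq b p y (M b r') := by
      unfold mq
      rw [hr', M_cons b j r' hle, πq_mul]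
      rfl
    rw [this]
    exact pow_p_apply_mul p _ (ιq_primitive b p y (b j)) f _

end RH

section Final

theorem height_one_hopf (k : Type u) [Field k] (p : ℕ) [hp : Fact p.Prime] [CharP k p]
    (L : Type u) [LieRing L] [LieAlgebra k L] [Module.Finite k L] (φ : PLie.PMap k p L) :
    ∃ (A : Type u) (_ : CommRing A) (_ : HopfAlgebra k A), Module.Finite k A ∧
      (∀ f : A, Bialgebra.counitAlgHom k A f = 0 → f ^ p = 0) ∧
      ∃ e : L →ₗ[k] Derivation k A A, Function.Injective e ∧
        Set.range e = {D : Derivation k A A |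
          CoalgebraStruct.comul (R := k) (A := A) ∘ₗ D.toLinearMap =
          LinearMap.lTensor A D.toLinearMap ∘ₗ CoalgebraStruct.comul (R := k) (A := A)} ∧
        (∀ x y : L, e ⁅x, y⁆ = ⁅e x, e y⁆) ∧
        (∀ x : L, (e (φ x)).toLinearMap = (e x).toLinearMap ^ p) := by
  have hy : ∀ i, LieAlgebra.ad k L (Module.finBasis k L i) ^ p =
      LieAlgebra.ad k L ((fun i => φ (Module.finBasis k L i)) i) :=
    fun i => (φ.ad_map (Module.finBasis k L i)).symm
  have hφ : φ = pmap p (Module.finBasis k L) (fun i => φ (Module.finBasis k L i)) hy := by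
    apply pmap_ext_basis p (Module.finBasis k L)
    intro i
    exact (phi_basis p (Module.finBasis k L) (fun i => φ (Module.finBasis k L i)) i).symm
  haveI h2s : (Jid (Module.finBasis k L) p (fun i => φ (Module.finBasis k L i))).IsTwoSided :=
    J_isTwoSided _ p _ hy
  haveI hHopf : (Jid (Module.finBasis k L) p
      (fun i => φ (Module.finBasis k L i))).IsHopfIdeal k := J_isHopfIdeal _ p _ hy
  haveI hfin : Module.Finite k (UniversalEnvelopingAlgebra k L ⧸
      Jid (Module.finBasis k L) p (fun i => φ (Module.finBasis k L i))) :=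
    quot_finite (Module.finBasis k L) p _ hy
  refine ⟨CartDual.D k (UniversalEnvelopingAlgebra k L ⧸
      Jid (Module.finBasis k L) p (fun i => φ (Module.finBasis k L i))),
    inferInstance, inferInstance, inferInstance, ?_, ?_⟩
  · intro f hf
    exact pow_p_eq_zero (Module.finBasis k L) p _ hy f hf
  · refine ⟨eDer (Module.finBasis k L) p _, eDer_injective _ p _ hy, eDer_range _ p _ hy,
      eDer_lie _ p _, ?_⟩
    intro x
    have hx : φ x = phi p (Module.finBasis k L) (fun i => φ (Module.finBasis k L i)) x :=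
      congrArg (fun ψ : PLie.PMap k p L => ψ.toFun x) hφ
    rw [hx]
    exact eDer_phi (Module.finBasis k L) p _ x

end Final

end Groth.Agent.Lib.Helper6.PLieL
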